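import Mathlib.LinearAlgebra.QuadraticForm.Basic
import Mathlib.LinearAlgebra.Matrix.BilinearForm
import Mathlib.RingTheory.Polynomial.GaussLemma
import Mathlib.RingTheory.Polynomial.Tower
import Mathlib.LinearAlgebra.Matrix.Charpoly.LinearMap
import Mathlib.LinearAlgebra.Charpoly.ToMatrix
import Mathlib.Analysis.Complex.Polynomial.Basic
import Mathlib.RingTheory.IntegralClosure.IntegrallyClosed
import Mathlib.RingTheory.Polynomial.RationalRoot
import Mathlib.FieldTheory.Minpoly.Field
import Mathlib.LinearAlgebra.FreeModule.Finite.Basic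

/-!
# Similitudes of positive forms: eigenvalues and semisimplicity
-/

set_option autoImplicit false

noncomputable section

namespace Groth.Agent.AV.Similitude

open Polynomial Matrix

variable {W : Type*} [AddCommGroup W] [Module ℚ W] [FiniteDimensional ℚ W] (β : LinearMap.BilinForm ℚ W)
  (hsymm : ∀ x y, β x y = β y x) (hpos : ∀ x, x ≠ 0 → 0 < β x x) (f : Module.End ℚ W) (c : ℚ) (hc : 0 < c)
  (hf : ∀ x y, β (f x) (f y) = c * β x y)

omit [FiniteDimensional ℚ W] in
include hpos in
theorem eq_zero_of_form {x : W} (h : β x x = 0) : x = 0 := by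
  by_contra hx
  exact (hpos x hx).ne' h

include hsymm hpos hc hf

/-- The minimal polynomial of a similitude of a positive form is squarefree. -/
theorem squarefree_minpoly : Squarefree (minpoly ℚ f) := by
  have hinj : Function.Injective f := (injective_iff_map_eq_zero f).2 fun x hx => by
    refine eq_zero_of_form β hpos (x := x) ?_
    have h := hf x x
    rw [hx, map_zero, eq_comm, mul_eq_zero] at h
    exact h.resolve_left hc.ne'
  let e := LinearEquiv.ofBijective f ⟨hinj, LinearMap.injective_iff_surjective.1 hinj⟩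
  let g : Module.End ℚ W := c • e.symm.toLinearMap
  have hfg : ∀ x, f (e.symm x) = x := e.apply_symm_apply
  have hadj : ∀ x y, β (f x) y = β x (g y) := fun x y => by
    conv_lhs => rw [← hfg y]
    rw [hf]
    simp [g]
  have hcomm : Commute f g := by
    refine LinearMap.ext fun x => ?_
    show f (c • e.symm x) = c • e.symm (f x)
    rw [map_smul, hfg, show e.symm (f x) = x from e.symm_apply_apply x]
  have hadjP : ∀ (p : ℚ[X]) x y, β (aeval f p x) y = β x (aeval g p y) := by
    intro p
    induction p using Polynomial.induction_on' with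
    | add p r hp hr => intro x y; simp [hp, hr]
    | monomial n a =>
      intro x y
      simp only [aeval_monomial, Module.algebraMap_end_eq_smul_id, Module.End.mul_eq_comp,
        LinearMap.smul_comp, LinearMap.id_comp, LinearMap.smul_apply, map_smul, smul_eq_mul]
      congr 1
      induction n generalizing x y with
      | zero => simp
      | succ n ih =>
        rw [pow_succ', Module.End.mul_apply, hadj, ih, ← Module.End.mul_apply (g ^ n) g, ← pow_succ, pow_succ']
  have hμ : minpoly ℚ f ≠ 0 := minpoly.ne_zero (IsIntegral.of_finite ℚ f)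
  intro p hp
  obtain ⟨r, hr⟩ := hp
  let T := aeval f p
  let S := aeval g p
  have hTS : Commute T S := by
    have h1 : Commute f S := by
      refine Algebra.commute_of_mem_adjoin_singleton_of_commute (aeval_mem_adjoin_singleton ℚ g) hcomm
    exact (Algebra.commute_of_mem_adjoin_singleton_of_commute (aeval_mem_adjoin_singleton ℚ f) h1.symm).symm
  have key : ∀ v, T (T v) = 0 → T v = 0 := fun v hv => by
    have e1 : T (S (T v)) = 0 := by
      rw [← Module.End.mul_apply T S, hTS.eq, Module.End.mul_apply, hv, map_zero]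
    have h1 : S (T v) = 0 := eq_zero_of_form β hpos (by
      rw [hsymm, ← hadjP]
      show β (T (S (T v))) (T v) = 0
      rw [e1, LinearMap.map_zero, LinearMap.zero_apply])
    exact eq_zero_of_form β hpos (by rw [hadjP, h1, map_zero])
  have hzero : aeval f (p * r) = 0 := LinearMap.ext fun x => by
    rw [map_mul, Module.End.mul_apply, LinearMap.zero_apply]
    refine key _ ?_
    rw [← Module.End.mul_apply T T, ← Module.End.mul_apply, ← map_mul, ← map_mul, ← hr, minpoly.aeval,
      LinearMap.zero_apply]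
  have hdvd : p * (p * r) ∣ 1 * (p * r) := by
    rw [one_mul, ← mul_assoc, ← hr]
    exact minpoly.dvd ℚ f hzero
  have hne : p * r ≠ 0 := fun h => hμ (by rw [hr, mul_assoc, h, mul_zero])
  exact isUnit_of_dvd_one ((mul_dvd_mul_iff_right hne).1 hdvd)

/-- The complex eigenvalues of a similitude of a positive form have absolute value `√c`. -/
theorem norm_root (α : ℂ) (hα : α ∈ ((minpoly ℚ f).map (algebraMap ℚ ℂ)).roots) : ‖α‖ = Real.sqrt c := by
  obtain ⟨v, hv⟩ := LinearMap.BilinForm.exists_orthogonal_basis (B := β) ⟨hsymm⟩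
  let N : Matrix _ _ ℚ := LinearMap.toMatrix v v f
  let d := fun t => β (v t) (v t)
  have hd : ∀ t, (0 : ℝ) < (d t : ℝ) := fun t => by exact_mod_cast hpos _ (v.ne_zero t)
  have hN : ∀ s r, ∑ t, d t * N t s * N t r = if s = r then c * d s else 0 := by
    intro s r
    have h := hf (v s) (v r)
    rw [← v.sum_repr (f (v s)), ← v.sum_repr (f (v r))] at h
    simp only [map_sum, map_smul, LinearMap.sum_apply, LinearMap.smul_apply, smul_eq_mul] at h
    have h2 : ∀ t, (∑ t', v.repr (f (v s)) t' * β (v t') (v t)) = v.repr (f (v s)) t * β (v t) (v t) := fun t =>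
      Finset.sum_eq_single t (fun t' _ ht => by rw [hv ht, mul_zero]) (by simp)
    simp only [h2] at h
    have h3 : ∑ t, d t * N t s * N t r = c * β (v s) (v r) := by
      rw [← h]
      refine Finset.sum_congr rfl fun t _ => ?_
      simp only [N, d, LinearMap.toMatrix_apply]
      ring
    rw [h3]
    split_ifs with hsr
    · rw [← hsr]
    · rw [hv hsr, mul_zero]
  have hchar : (N.map (algebraMap ℚ ℂ)).charpoly.IsRoot α := by
    have h1 : minpoly ℚ f ∣ f.charpoly := LinearMap.minpoly_dvd_charpoly f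
    rw [Matrix.charpoly_map, LinearMap.charpoly_toMatrix]
    exact (Polynomial.isRoot_of_mem_roots hα).dvd (Polynomial.map_dvd _ h1)
  rw [Polynomial.IsRoot, Matrix.eval_charpoly] at hchar
  obtain ⟨u, hu0, hu⟩ := Matrix.exists_mulVec_eq_zero_iff.2 hchar
  have heig : ∀ t, ∑ s, (N t s : ℂ) * u s = α * u t := fun t => by
    have := congr_fun hu t
    rw [Matrix.sub_mulVec, Pi.sub_apply, Pi.zero_apply, sub_eq_zero, Matrix.scalar_apply,
      Matrix.mulVec_diagonal] at this
    simpa [Matrix.mulVec, dotProduct] using this.symm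
  obtain ⟨t₀, ht₀⟩ := Function.ne_iff.1 hu0
  let Q : ℝ := ∑ t, (d t : ℝ) * Complex.normSq (u t)
  have hQ : 0 < Q := Finset.sum_pos' (fun t _ => mul_nonneg (hd t).le (Complex.normSq_nonneg _))
    ⟨t₀, Finset.mem_univ _, mul_pos (hd t₀) (Complex.normSq_pos.2 ht₀)⟩
  have key : ((Complex.normSq α * Q : ℝ) : ℂ) = (((c : ℝ) * Q : ℝ) : ℂ) := by
    have e1 : ∀ t, ((d t : ℝ) : ℂ) * (Complex.normSq (α * u t) : ℂ) =
        ∑ s, ∑ r, (starRingEnd ℂ (u s)) * u r * ((d t * N t s * N t r : ℚ) : ℂ) := fun t => by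
      rw [Complex.normSq_eq_conj_mul_self, ← heig t, map_sum, Finset.sum_mul_sum, Finset.mul_sum]
      refine Finset.sum_congr rfl fun s _ => ?_
      rw [Finset.mul_sum]
      refine Finset.sum_congr rfl fun r _ => ?_
      rw [map_mul, show starRingEnd ℂ (N t s : ℂ) = (N t s : ℂ) from map_ratCast _ _]
      push_cast
      ring
    have e2 : ∀ s r, ∑ t, (starRingEnd ℂ (u s)) * u r * ((d t * N t s * N t r : ℚ) : ℂ) =
        (starRingEnd ℂ (u s)) * u r * (if s = r then ((c * d s : ℚ) : ℂ) else 0) := fun s r => by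
      rw [← Finset.mul_sum, ← Rat.cast_sum, hN]
      split_ifs <;> simp
    calc ((Complex.normSq α * Q : ℝ) : ℂ) = ∑ t, ((d t : ℝ) : ℂ) * (Complex.normSq (α * u t) : ℂ) := by
          simp only [Q, Finset.mul_sum]
          push_cast
          refine Finset.sum_congr rfl fun t _ => ?_
          rw [map_mul, Complex.ofReal_mul]
          ring
      _ = ∑ s, ∑ r, ∑ t, (starRingEnd ℂ (u s)) * u r * ((d t * N t s * N t r : ℚ) : ℂ) := by
          simp only [e1]
          rw [Finset.sum_comm]
          exact Finset.sum_congr rfl fun s _ => Finset.sum_comm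
      _ = ∑ s, (starRingEnd ℂ (u s)) * u s * ((c * d s : ℚ) : ℂ) := by
          simp only [e2, mul_ite, mul_zero, Finset.sum_ite_eq, Finset.mem_univ, if_true]
      _ = (((c : ℝ) * Q : ℝ) : ℂ) := by
          simp only [Q, Finset.mul_sum]
          push_cast
          refine Finset.sum_congr rfl fun t _ => ?_
          rw [Complex.normSq_eq_conj_mul_self]
          ring
  rw [Complex.norm_def, mul_right_cancel₀ hQ.ne' (Complex.ofReal_inj.1 key)]

omit hsymm hpos hc hf

/-- A similitude of a positive form on a lattice is killed by an integral polynomial with simple roots of absolute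
value the square root of the ratio. -/
theorem exists_poly {V : Type*} [AddCommGroup V] [Module.Free ℤ V] [Module.Finite ℤ V] (b : V →+ V →+ ℚ)
    (hsymm : ∀ x y, b x y = b y x) (hpos : ∀ x, x ≠ 0 → 0 < b x x) (f : Module.End ℤ V) (c : ℚ) (hc : 0 < c)
    (hf : ∀ x y, b (f x) (f y) = c * b x y) :
    ∃ P : ℤ[X], P.Monic ∧ aeval f P = 0 ∧ Squarefree (P.map (Int.castRingHom ℚ)) ∧
      ∀ α ∈ (P.map (Int.castRingHom ℂ)).roots, ‖α‖ = Real.sqrt c := by
  classical
  let ι := Module.Free.ChooseBasisIndex ℤ V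
  let e := Module.Free.chooseBasis ℤ V
  let G : Matrix ι ι ℚ := Matrix.of fun i j => b (e i) (e j)
  let M : Matrix ι ι ℤ := LinearMap.toMatrix e e f
  let Mq : Matrix ι ι ℚ := M.map (Int.castRingHom ℚ)
  let β : LinearMap.BilinForm ℚ (ι → ℚ) := Matrix.toBilin' G
  let cast : V →+ (ι → ℚ) := AddMonoidHom.mk' (fun x i => (e.repr x i : ℚ)) fun x y => by
    funext i
    simp
  have hcast : ∀ x y, β (cast x) (cast y) = b x y := by
    intro x y
    conv_rhs => rw [← e.sum_repr x, ← e.sum_repr y]
    simp only [map_sum, map_zsmul, AddMonoidHom.finsetSum_apply, AddMonoidHom.smul_apply, β, G,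
      Matrix.toBilin'_apply, Matrix.of_apply, zsmul_eq_mul, cast, AddMonoidHom.mk'_apply, Finset.mul_sum]
    rw [Finset.sum_comm]
    exact Finset.sum_congr rfl fun i _ => Finset.sum_congr rfl fun j _ => by ring
  have hdenom : ∀ w : ι → ℚ, ∃ (n : ℤ) (x : V), n ≠ 0 ∧ cast x = (n : ℚ) • w := by
    intro w
    obtain ⟨⟨n, hn⟩, hn'⟩ := IsLocalization.exist_integer_multiples_of_finite (nonZeroDivisors ℤ) w
    choose z hz using hn'
    refine ⟨n, e.equivFun.symm z, nonZeroDivisors.ne_zero hn, funext fun i => ?_⟩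
    have h1 : e.repr (e.equivFun.symm z) i = z i := congrFun (e.equivFun.apply_symm_apply z) i
    simp only [cast, AddMonoidHom.mk'_apply, h1, Pi.smul_apply, smul_eq_mul]
    simpa using hz i
  have hβs : ∀ x y, β x y = β y x := by
    intro x y
    simp only [β, G, Matrix.toBilin'_apply, Matrix.of_apply]
    rw [Finset.sum_comm]
    exact Finset.sum_congr rfl fun i _ => Finset.sum_congr rfl fun j _ => by rw [hsymm (e j) (e i)]; ring
  have hβp : ∀ w, w ≠ 0 → 0 < β w w := by
    intro w hw
    obtain ⟨n, x, hn, hx⟩ := hdenom w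
    have hn' : (n : ℚ) ≠ 0 := Int.cast_ne_zero.2 hn
    have hx0 : x ≠ 0 := by
      rintro rfl
      rw [map_zero] at hx
      exact hw ((smul_eq_zero.1 hx.symm).resolve_left hn')
    have h := hpos x hx0
    rw [← hcast, hx] at h
    simp only [map_smul, LinearMap.smul_apply, smul_eq_mul, ← mul_assoc] at h
    exact pos_of_mul_pos_right h (mul_self_nonneg _)
  let fq : Module.End ℚ (ι → ℚ) := Matrix.toLin' Mq
  have hfq : ∀ x, fq (cast x) = cast (f x) := by
    intro x
    funext i
    have h1 := congrFun (LinearMap.toMatrix_mulVec_repr e e f x) i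
    simp only [fq, Mq, M, Matrix.toLin'_apply, cast, AddMonoidHom.mk'_apply, Matrix.mulVec, dotProduct,
      Matrix.map_apply, eq_intCast]
    rw [← h1]
    simp only [Matrix.mulVec, dotProduct, Int.cast_sum, Int.cast_mul]
    rfl
  have hfβ : ∀ x y, β (fq x) (fq y) = c * β x y := by
    intro x y
    obtain ⟨n, x', hn, hx⟩ := hdenom x
    obtain ⟨m, y', hm, hy⟩ := hdenom y
    have h := hf x' y'
    rw [← hcast, ← hcast, ← hfq, ← hfq, hx, hy] at h
    simp only [map_smul, LinearMap.smul_apply, smul_eq_mul] at h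
    refine mul_left_cancel₀ (mul_ne_zero (Int.cast_ne_zero.2 hn : (n : ℚ) ≠ 0) (Int.cast_ne_zero.2 hm : (m : ℚ) ≠ 0)) ?_
    linear_combination h
  have hroots := norm_root β hβs hβp fq c hc hfβ
  have hsq := squarefree_minpoly β hβs hβp fq c hc hfβ
  let ψ : Matrix ι ι ℤ →+* Module.End ℚ (ι → ℚ) :=
    ((Matrix.toLinAlgEquiv' (R := ℚ) (n := ι)).toRingEquiv.toRingHom).comp (Int.castRingHom ℚ).mapMatrix
  have hψ : ∀ (P : ℤ[X]), aeval fq (P.map (Int.castRingHom ℚ)) = ψ (aeval M P) := fun P => by
    rw [show Int.castRingHom ℚ = algebraMap ℤ ℚ from rfl, aeval_map_algebraMap,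
      show ψ (aeval M P) = ψ.toIntAlgHom (aeval M P) from rfl, ← aeval_algHom_apply ψ.toIntAlgHom M P]
    rfl
  have hdvd : minpoly ℚ fq ∣ M.charpoly.map (algebraMap ℤ ℚ) := by
    refine minpoly.dvd ℚ fq ?_
    rw [show algebraMap ℤ ℚ = Int.castRingHom ℚ from rfl, hψ, Matrix.aeval_self_charpoly, map_zero]
  obtain ⟨P, hP⟩ := IsIntegrallyClosed.eq_map_mul_C_of_dvd ℚ M.charpoly_monic hdvd
  rw [(minpoly.monic (IsIntegral.of_finite ℚ fq)).leadingCoeff, C_1, mul_one] at hP
  change P.map (Int.castRingHom ℚ) = _ at hP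
  refine ⟨P, monic_of_injective (f := Int.castRingHom ℚ) Int.cast_injective (hP ▸ minpoly.monic (IsIntegral.of_finite ℚ fq)), ?_, ?_, ?_⟩
  · have h1 : ψ (aeval M P) = 0 := by rw [← hψ, hP, minpoly.aeval]
    have h2 : aeval M P = 0 := by
      refine Matrix.map_injective (f := fun a : ℤ => (a : ℚ)) Int.cast_injective ?_
      refine Matrix.toLinAlgEquiv'.injective (h1.trans ?_)
      simp
    have h3 : (LinearMap.toMatrixAlgEquiv e) (aeval f P) = 0 := by
      rw [← aeval_algHom_apply, ← h2]
      rfl
    exact (LinearMap.toMatrixAlgEquiv e).injective (h3.trans (map_zero _).symm)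
  · rw [hP]; exact hsq
  · have hℂ : P.map (Int.castRingHom ℂ) = (minpoly ℚ fq).map (algebraMap ℚ ℂ) := by
      rw [← hP, Polynomial.map_map]
      exact congrArg (fun r => P.map r) (Subsingleton.elim _ _)
    rw [hℂ]
    exact hroots

end Groth.Agent.AV.Similitude
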