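/-
A monic polynomial over `ℤ_l` is determined by the norms of its resultants with monic integer polynomials.
-/
import Mathlib.NumberTheory.Padics.Complex
import Mathlib.NumberTheory.Padics.ProperSpace
import Mathlib.FieldTheory.Minpoly.IsIntegrallyClosed
import Mathlib.LinearAlgebra.Matrix.Charpoly.Coeff
import Mathlib.FieldTheory.IsAlgClosed.Basic
import Mathlib.Topology.Algebra.Polynomial
import Mathlib.RingTheory.Polynomial.RationalRoot
import Mathlib.RingTheory.PrincipalIdealDomain

set_option autoImplicit false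

noncomputable section

namespace Groth.Agent.NormPolyEq

open Polynomial Filter Topology

variable {l : ℕ} [Fact l.Prime]

local notation "K" => PadicAlgCl l

/-- The product of the values of `G` at the roots of `P`. -/
def res (P G : ℤ_[l][X]) : K := ((P.map (algebraMap ℤ_[l] K)).roots.map fun a => aeval a G).prod

theorem injective_algebraMap : Function.Injective (algebraMap ℤ_[l] K) := by
  rw [IsScalarTower.algebraMap_eq ℤ_[l] ℚ_[l] K]
  exact (algebraMap ℚ_[l] K).injective.comp Subtype.val_injective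

local instance : Module.IsTorsionFree ℤ_[l] K := Module.isTorsionFree_iff_algebraMap_injective.2 injective_algebraMap

theorem res_mul {P Q : ℤ_[l][X]} (hP : P.Monic) (hQ : Q.Monic) (G : ℤ_[l][X]) :
    res (P * Q) G = res P G * res Q G := by
  rw [res, Polynomial.map_mul, roots_mul (mul_ne_zero (hP.map _).ne_zero (hQ.map _).ne_zero), Multiset.map_add,
    Multiset.prod_add]
  rfl

theorem continuous_algebraMap_padicInt : Continuous (algebraMap ℤ_[l] K) := by
  rw [IsScalarTower.algebraMap_eq ℤ_[l] ℚ_[l] K]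
  exact (continuous_algebraMap ℚ_[l] K).comp continuous_subtype_val

/-- Monic polynomials with a given tail. -/
def mk {n : ℕ} (c : Fin n → ℤ_[l]) : ℤ_[l][X] := X ^ n + ∑ i : Fin n, C (c i) * X ^ (i : ℕ)

theorem continuous_res_mk (P : ℤ_[l][X]) (n : ℕ) : Continuous fun c : Fin n → ℤ_[l] => res P (mk c) := by
  refine continuous_multiset_prod _ fun a _ => ?_
  simp only [mk, map_add, map_sum, map_mul, map_pow, aeval_X, aeval_C]
  exact continuous_const.add (continuous_finsetSum _ fun i _ =>
    (continuous_algebraMap_padicInt.comp (continuous_apply i)).mul continuous_const)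

theorem continuous_res_add (P G : ℤ_[l][X]) : Continuous fun t : ℤ_[l] => res P (G + C t) := by
  refine continuous_multiset_prod _ fun a _ => ?_
  simp only [map_add, aeval_C]
  exact continuous_const.add continuous_algebraMap_padicInt

theorem mk_coeff {G : ℤ_[l][X]} (hG : G.Monic) : mk (fun i : Fin G.natDegree => G.coeff i) = G := by
  conv_rhs => rw [hG.as_sum, ← Fin.sum_univ_eq_sum_range (fun i => C (G.coeff i) * X ^ i)]
  rfl

theorem extend_int {P Q : ℤ_[l][X]}
    (h : ∀ G : ℤ[X], G.Monic → ‖res P (G.map (algebraMap ℤ ℤ_[l]))‖ = ‖res Q (G.map (algebraMap ℤ ℤ_[l]))‖)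
    (G : ℤ_[l][X]) (hG : G.Monic) : ‖res P G‖ = ‖res Q G‖ := by
  rw [← mk_coeff hG]
  have hd : DenseRange (Pi.map fun _ : Fin G.natDegree => (Int.cast : ℤ → ℤ_[l])) :=
    DenseRange.piMap fun _ => PadicInt.denseRange_intCast
  refine congrFun (hd.equalizer ((continuous_res_mk P _).norm) ((continuous_res_mk Q _).norm)
    (_root_.funext fun c => ?_)) _
  let G0 : ℤ[X] := X ^ G.natDegree + ∑ i : Fin G.natDegree, C (c i) * X ^ (i : ℕ)
  have hG0 : G0.Monic := monic_X_pow_add (by
    refine (degree_sum_le _ _).trans_lt ?_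
    rw [Finset.sup_lt_iff (WithBot.bot_lt_coe _)]
    intro i _
    exact (degree_C_mul_X_pow_le _ _).trans_lt (WithBot.coe_lt_coe.2 i.isLt))
  have e : G0.map (algebraMap ℤ ℤ_[l]) = mk (fun i => ((c i : ℤ) : ℤ_[l])) := by
    simp [G0, mk, Polynomial.map_sum]
  have h1 := h G0 hG0
  rwa [e] at h1

theorem cancel {P Q F : ℤ_[l][X]} (hP : P.Monic) (hQ : Q.Monic) (hF : F.Monic)
    (h : ∀ G : ℤ_[l][X], G.Monic → ‖res (F * P) G‖ = ‖res (F * Q) G‖)
    (G : ℤ_[l][X]) (hG : G.Monic) : ‖res P G‖ = ‖res Q G‖ := by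
  classical
  rcases Nat.eq_zero_or_pos G.natDegree with hd | hd
  · rw [eq_one_of_monic_natDegree_zero hG hd]; simp [res]
  let bad : Set ℕ := {N | res F (G + C ((l : ℤ_[l]) ^ N)) = 0}
  have hbad : bad.Finite := by
    let A := (F.map (algebraMap ℤ_[l] K)).roots.toFinset
    have hsub : bad ⊆ ⋃ a ∈ A, {N : ℕ | aeval a G + algebraMap ℤ_[l] K ((l : ℤ_[l]) ^ N) = 0} := by
      intro N hN
      have hN' : res F (G + C ((l : ℤ_[l]) ^ N)) = 0 := hN
      rw [res, Multiset.prod_eq_zero_iff, Multiset.mem_map] at hN'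
      obtain ⟨a, ha, ha'⟩ := hN'
      refine Set.mem_biUnion (Multiset.mem_toFinset.2 ha) ?_
      rwa [map_add, aeval_C] at ha'
    refine (A.finite_toSet.biUnion fun a _ => Set.Subsingleton.finite ?_).subset hsub
    intro N hN M hM
    rw [Set.mem_setOf_eq] at hN hM
    have e := add_left_cancel (hN.trans hM.symm)
    have hinj : Function.Injective (algebraMap ℤ_[l] K) := by
      rw [IsScalarTower.algebraMap_eq ℤ_[l] ℚ_[l] K]
      exact (algebraMap ℚ_[l] K).injective.comp Subtype.val_injective
    have e2 := congrArg PadicInt.valuation (hinj e)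
    simpa [PadicInt.valuation_pow] using e2
  have key : ∀ᶠ N : ℕ in atTop, ‖res P (G + C ((l : ℤ_[l]) ^ N))‖ = ‖res Q (G + C ((l : ℤ_[l]) ^ N))‖ := by
    rw [← Nat.cofinite_eq_atTop]
    refine hbad.eventually_cofinite_notMem.mono fun N hN => ?_
    have hm : (G + C ((l : ℤ_[l]) ^ N)).Monic :=
      hG.add_of_left (degree_C_le.trans_lt (natDegree_pos_iff_degree_pos.1 hd))
    have h1 := h _ hm
    rw [res_mul hF hP, res_mul hF hQ, norm_mul, norm_mul] at h1
    exact mul_left_cancel₀ (norm_ne_zero_iff.2 hN) h1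
  have hpow : Tendsto (fun N : ℕ => (l : ℤ_[l]) ^ N) atTop (𝓝 0) :=
    tendsto_pow_atTop_nhds_zero_of_norm_lt_one (by
      rw [PadicInt.norm_p]
      exact inv_lt_one_of_one_lt₀ (by exact_mod_cast (Fact.out : l.Prime).one_lt))
  have hlim : ∀ R : ℤ_[l][X], Tendsto (fun N : ℕ => ‖res R (G + C ((l : ℤ_[l]) ^ N))‖) atTop (𝓝 ‖res R G‖) := fun R => by
    have h1 := (continuous_res_add R G).norm.tendsto 0
    rw [map_zero, add_zero] at h1
    exact h1.comp hpow
  exact tendsto_nhds_unique (Tendsto.congr' key (hlim P)) (hlim Q)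

theorem eq_of_norm_res : ∀ (d : ℕ) (P Q : ℤ_[l][X]), P.Monic → Q.Monic → P.natDegree = d → Q.natDegree = d →
    (∀ G : ℤ_[l][X], G.Monic → ‖res P G‖ = ‖res Q G‖) → P = Q := by
  intro d
  induction d using Nat.strong_induction_on with
  | _ d ih =>
    intro P Q hP hQ hPd hQd h
    rcases Nat.eq_zero_or_pos d with rfl | hd
    · rw [eq_one_of_monic_natDegree_zero hP hPd, eq_one_of_monic_natDegree_zero hQ hQd]
    obtain ⟨a, ha⟩ := IsAlgClosed.exists_root (Q.map (algebraMap ℤ_[l] K))
      (fun h0 => hd.ne' (by rw [← hQd, ← hQ.natDegree_map (algebraMap ℤ_[l] K), natDegree_eq_zero_iff_degree_le_zero, h0]))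
    have haQ : aeval a Q = 0 := by rw [← eval_map_algebraMap]; exact ha
    have hint : IsIntegral ℤ_[l] a := ⟨Q, hQ, by rw [← aeval_def]; exact haQ⟩
    let F := minpoly ℤ_[l] a
    have hF : F.Monic := minpoly.monic hint
    obtain ⟨Q', hQ'⟩ := minpoly.isIntegrallyClosed_dvd hint haQ
    have hzero : res Q F = 0 := by
      rw [res, Multiset.prod_eq_zero_iff, Multiset.mem_map]
      exact ⟨a, (mem_roots (hQ.map _).ne_zero).2 ha, minpoly.aeval _ _⟩
    have hP0 : res P F = 0 := by
      have := h F hF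
      rwa [hzero, norm_zero, norm_eq_zero] at this
    rw [res, Multiset.prod_eq_zero_iff, Multiset.mem_map] at hP0
    obtain ⟨b, hb, hbF⟩ := hP0
    have hbP : aeval b P = 0 := by rw [← eval_map_algebraMap]; exact (mem_roots'.1 hb).2
    have hintb : IsIntegral ℤ_[l] b := ⟨P, hP, by rw [← aeval_def]; exact hbP⟩
    have hbeq : minpoly ℤ_[l] b = F :=
      eq_of_monic_of_associated (minpoly.monic hintb) hF
        (((minpoly.irreducible hint).dvd_iff.1 (minpoly.isIntegrallyClosed_dvd hintb hbF)).resolve_left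
          (minpoly.not_isUnit _ _)).symm
    obtain ⟨P', hP'⟩ := hbeq ▸ minpoly.isIntegrallyClosed_dvd hintb hbP
    have hQ'm : Q'.Monic := hF.of_mul_monic_left (hQ' ▸ hQ)
    have hP'm : P'.Monic := hF.of_mul_monic_left (hP' ▸ hP)
    have hFd : 0 < F.natDegree := minpoly.natDegree_pos hint
    have e1 : F.natDegree + P'.natDegree = d := by rw [← hF.natDegree_mul hP'm, ← hP', hPd]
    have e2 : F.natDegree + Q'.natDegree = d := by rw [← hF.natDegree_mul hQ'm, ← hQ', hQd]
    rw [hP', hQ', ih P'.natDegree (by omega) P' Q' hP'm hQ'm rfl (by omega)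
      (cancel hP'm hQ'm hF fun G hG => by rw [← hP', ← hQ']; exact h G hG)]

/-- The determinant of a polynomial in a matrix. -/
theorem det_aeval_eq_res {ι : Type*} [Fintype ι] [DecidableEq ι] (M : Matrix ι ι ℤ_[l]) (G : ℤ_[l][X])
    (hG : G.Monic) : algebraMap ℤ_[l] K (aeval M G).det = res M.charpoly G := by
  classical
  let φ := algebraMap ℤ_[l] K
  let N : Matrix ι ι K := M.map φ
  let Gk := G.map φ
  have hGk : (Gk.roots.map fun a => X - C a).prod = Gk :=
    prod_multiset_X_sub_C_of_monic_of_roots_card_eq (hG.map _) (IsAlgClosed.splits Gk).natDegree_eq_card_roots.symm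
  have hQk : (N.charpoly.roots.map fun a => X - C a).prod = N.charpoly :=
    prod_multiset_X_sub_C_of_monic_of_roots_card_eq N.charpoly_monic
      (IsAlgClosed.splits N.charpoly).natDegree_eq_card_roots.symm
  have e1 : φ (aeval M G).det = (aeval N Gk).det := by
    rw [RingHom.map_det, RingHom.mapMatrix_apply]
    refine congrArg Matrix.det ?_
    have := map_aeval_eq_aeval_map (S := Matrix ι ι ℤ_[l]) (T := K) (U := Matrix ι ι K) (φ := φ)
      (ψ := φ.mapMatrix) (by
        ext c i j
        simp [Matrix.algebraMap_matrix_apply]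
        split <;> simp) G M
    exact this
  have e2 : ∀ c : K, (aeval N (X - C c)).det = (N.charpoly.roots.map fun b => b - c).prod := by
    intro c
    rw [map_sub, aeval_X, aeval_C, ← neg_sub, Matrix.det_neg,
      show algebraMap K (Matrix ι ι K) c = Matrix.scalar ι c from rfl, ← Matrix.eval_charpoly]
    conv_lhs => rw [← hQk]
    rw [eval_multiset_prod, Multiset.map_map, ← N.charpoly_natDegree_eq_dim,
      (IsAlgClosed.splits N.charpoly).natDegree_eq_card_roots, ← Multiset.prod_replicate, ← Multiset.map_const',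
      ← Multiset.prod_map_mul]
    exact congrArg _ (Multiset.map_congr rfl fun b _ => by simp)
  have e3 : ∀ b : K, aeval b G = (Gk.roots.map fun c => b - c).prod := by
    intro b
    rw [← eval_map_algebraMap, show G.map (algebraMap ℤ_[l] K) = Gk from rfl]
    conv_lhs => rw [← hGk]
    rw [eval_multiset_prod, Multiset.map_map]
    simp [Function.comp_def]
  show φ _ = _
  rw [e1, res, ← Matrix.charpoly_map, show M.map (algebraMap ℤ_[l] K) = N from rfl]
  simp only [e3]
  rw [Multiset.prod_map_prod_map]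
  conv_lhs => rw [← hGk]
  induction Gk.roots using Multiset.induction with
  | empty => simp
  | cons c s ih =>
    rw [Multiset.map_cons, Multiset.prod_cons, map_mul, Matrix.det_mul, ih, Multiset.map_cons, Multiset.prod_cons,
      e2]

end Groth.Agent.NormPolyEq
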