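/-
A group with an anisotropic integral form and a saturated map to a finite free `ℤ_l`-module is a lattice.
-/
import Mathlib.NumberTheory.Padics.RingHoms
import Mathlib.LinearAlgebra.FreeModule.Finite.Quotient
import Mathlib.LinearAlgebra.Dimension.Constructions
import Mathlib.LinearAlgebra.Dimension.Finite
import Mathlib.LinearAlgebra.Dimension.LinearMap
import Mathlib.LinearAlgebra.Dimension.Localization
import Mathlib.LinearAlgebra.Matrix.NonsingularInverse
import Mathlib.RingTheory.Localization.Module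

set_option autoImplicit false

noncomputable section

namespace Groth.Agent.LatticeBound

variable {G : Type*} [AddCommGroup G] (b : G →+ G →+ ℚ) (hint : ∀ x y, ∃ z : ℤ, b x y = z)
  (hani : ∀ x, x ≠ 0 → b x x ≠ 0)

include hani in
theorem eq_zero_of_zsmul {m : ℤ} (hm : m ≠ 0) {x : G} (h : m • x = 0) : x = 0 := by
  by_contra hx
  refine hani x hx ?_
  have h1 : b (m • x) x = 0 := by rw [h, map_zero, AddMonoidHom.zero_apply]
  rw [map_zsmul, AddMonoidHom.smul_apply, zsmul_eq_mul] at h1
  exact (mul_eq_zero.1 h1).resolve_left (Int.cast_ne_zero.2 hm)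

/-- The saturation of the span of a family. -/
def sat {n : ℕ} (e : Fin n → G) : Submodule ℤ G where
  carrier := {x | ∃ m : ℤ, m ≠ 0 ∧ m • x ∈ Submodule.span ℤ (Set.range e)}
  zero_mem' := ⟨1, one_ne_zero, by simp⟩
  add_mem' := by
    rintro x y ⟨a, ha, hx⟩ ⟨c, hc, hy⟩
    refine ⟨a * c, mul_ne_zero ha hc, ?_⟩
    rw [smul_add]
    refine add_mem ?_ ?_
    · rw [mul_comm, mul_smul]; exact Submodule.smul_mem _ c hx
    · rw [mul_smul]; exact Submodule.smul_mem _ a hy
  smul_mem' := by
    rintro r x ⟨a, ha, hx⟩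
    exact ⟨a, ha, by rw [smul_comm]; exact Submodule.smul_mem _ r hx⟩

include hint hani in
theorem finite_sat {n : ℕ} (e : Fin n → G) : Module.Finite ℤ (sat e) := by
  choose z hz using hint
  let φ : sat e →ₗ[ℤ] (Fin n → ℤ) := AddMonoidHom.toIntLinearMap
    { toFun := fun x i => z (x : G) (e i)
      map_zero' := funext fun i => Int.cast_injective (α := ℚ) (by
        rw [← hz]; simp)
      map_add' := fun x y => funext fun i => Int.cast_injective (α := ℚ) (by
        show ((z ((x : G) + y) (e i) : ℤ) : ℚ) = ((z (x : G) (e i) + z (y : G) (e i) : ℤ) : ℚ)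
        rw [Int.cast_add, ← hz, ← hz, ← hz, map_add]; rfl) }
  have hφ : Function.Injective φ := by
    rw [injective_iff_map_eq_zero]
    rintro ⟨x, m, hm, hx⟩ h0
    have he : ∀ i, b x (e i) = 0 := fun i => by
      rw [hz]
      exact_mod_cast congrFun h0 i
    have hspan : ∀ y ∈ Submodule.span ℤ (Set.range e), b x y = 0 := fun y hy => by
      induction hy using Submodule.span_induction with
      | mem y hy => obtain ⟨i, rfl⟩ := hy; exact he i
      | zero => exact map_zero _
      | add y w _ _ hy hw => rw [map_add, hy, hw, add_zero]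
      | smul r y _ hy => rw [map_zsmul, hy, smul_zero]
    have h1 := hspan _ hx
    rw [map_zsmul, zsmul_eq_mul] at h1
    have h2 : b x x = 0 := (mul_eq_zero.1 h1).resolve_left (Int.cast_ne_zero.2 hm)
    exact Subtype.ext (not_imp_not.1 (hani x) h2)
  exact Module.Finite.of_injective φ hφ

variable {l : ℕ} [Fact l.Prime] {V : Type*} [AddCommGroup V] [Module ℤ_[l] V] (T : G →+ V)
  (hsat : ∀ (n : ℕ) (x : G) (v : V), T x = ((l : ℤ_[l]) ^ n) • v → ∃ y, ((l : ℤ) ^ n) • y = x)

include hint hani hsat in
theorem linearIndependent_padic {n : ℕ} (e : Fin n → G) (f : Fin n → G)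
    (hf : ∀ y, y ∈ sat e → ∃ c : Fin n → ℤ, y = ∑ i, c i • f i) (hfm : ∀ i, f i ∈ sat e)
    (hfi : LinearIndependent ℤ f) : LinearIndependent ℤ_[l] fun i => T (f i) := by
  rw [Fintype.linearIndependent_iff]
  intro a ha i
  have key : ∀ m : ℕ, a i ∈ Ideal.span {((l : ℤ_[l]) ^ m)} := by
    intro m
    have hd : ∀ j, ∃ d, a j = ((a j).appr m : ℤ_[l]) + d * (l : ℤ_[l]) ^ m := fun j => by
      obtain ⟨d, hd⟩ := Ideal.mem_span_singleton'.1 (PadicInt.appr_spec m (a j))
      exact ⟨d, by rw [hd]; ring⟩
    choose d hd using hd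
    let x : G := ∑ j, ((a j).appr m : ℤ) • f j
    have hTx : T x = ((l : ℤ_[l]) ^ m) • (-∑ j, d j • T (f j)) := by
      rw [smul_neg, eq_neg_iff_add_eq_zero, Finset.smul_sum, map_sum, ← Finset.sum_add_distrib, ← ha]
      refine Finset.sum_congr rfl fun j _ => ?_
      rw [natCast_zsmul, map_nsmul, ← Nat.cast_smul_eq_nsmul ℤ_[l], smul_smul, ← add_smul]
      congr 1
      conv_rhs => rw [hd j]
      ring
    obtain ⟨y, hy⟩ := hsat m x _ hTx
    have hysat : y ∈ sat e := by
      obtain ⟨c, hc, hc'⟩ : x ∈ sat e := Submodule.sum_mem _ fun j _ => Submodule.smul_mem _ _ (hfm j)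
      refine ⟨c * (l : ℤ) ^ m, mul_ne_zero hc (pow_ne_zero _ (Int.natCast_ne_zero.2 (Fact.out : l.Prime).ne_zero)), ?_⟩
      rwa [mul_smul, hy]
    obtain ⟨c, rfl⟩ := hf y hysat
    rw [Finset.smul_sum] at hy
    have h0 := Fintype.linearIndependent_iff.1 hfi (fun j => (l : ℤ) ^ m * c j - ((a j).appr m : ℤ)) (by
      simp only [sub_smul, mul_smul, Finset.sum_sub_distrib]
      rw [hy]
      exact sub_self _) i
    rw [sub_eq_zero] at h0
    rw [hd i, Ideal.mem_span_singleton]
    refine dvd_add ⟨((c i : ℤ) : ℤ_[l]), ?_⟩ (dvd_mul_left _ _)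
    have := congrArg (fun z : ℤ => (z : ℤ_[l])) h0.symm
    simpa using this
  by_contra hne
  have h := Ideal.mem_span_singleton.1 (key ((a i).valuation + 1))
  obtain ⟨q, hq⟩ := h
  have hv := congrArg PadicInt.valuation hq
  rcases eq_or_ne q 0 with rfl | hq0
  · exact hne (by rw [hq, mul_zero])
  rw [PadicInt.valuation_mul (pow_ne_zero _ (Nat.cast_ne_zero.2 (Fact.out : l.Prime).ne_zero)) hq0,
    PadicInt.valuation_pow, PadicInt.valuation_p] at hv
  omega

variable [Module.Free ℤ_[l] V] [Module.Finite ℤ_[l] V]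

include hint hani hsat in
theorem card_le {n : ℕ} (e : Fin n → G) (he : LinearIndependent ℤ e) : n ≤ Module.finrank ℤ_[l] V := by
  haveI : Module.Finite ℤ (sat e) := finite_sat b hint hani e
  haveI : Module.IsTorsionFree ℤ (sat e) := Module.IsTorsionFree.of_smul_eq_zero fun m x h => by
    by_cases hm : m = 0
    · exact Or.inl hm
    · exact Or.inr (Subtype.ext (eq_zero_of_zsmul b hani hm (congrArg Subtype.val h)))
  haveI : Module.Free ℤ (sat e) := inferInstance
  let bs := Module.finBasis ℤ (sat e)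
  let he' : Fin n → sat e := fun i => ⟨e i, 1, one_ne_zero, by rw [one_smul]; exact Submodule.subset_span ⟨i, rfl⟩⟩
  have h1 : n ≤ Module.finrank ℤ (sat e) := by
    have hli : LinearIndependent ℤ he' := LinearIndependent.of_comp (sat e).subtype he
    simpa using LinearIndependent.fintype_card_le_finrank hli
  have hfull : Module.finrank ℤ (sat e) = n := by
    refine le_antisymm ?_ h1
    let P := Submodule.span ℤ (Set.range e)
    choose m hm hmem using fun i => (bs i).2
    let M : ℤ := ∏ i, m i
    have hM : M ≠ 0 := Finset.prod_ne_zero_iff.2 fun i _ => hm i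
    have hmemM : ∀ x : sat e, M • (x : G) ∈ P := fun x => by
      rw [← bs.sum_repr x, Submodule.coe_sum, Finset.smul_sum]
      refine Submodule.sum_mem _ fun i _ => ?_
      rw [Submodule.coe_smul, smul_comm]
      refine Submodule.smul_mem _ _ ?_
      obtain ⟨q, hq⟩ := Finset.dvd_prod_of_mem m (Finset.mem_univ i)
      show M • _ ∈ P
      rw [show M = q * m i by rw [mul_comm]; exact hq, mul_smul]
      exact Submodule.smul_mem _ q (hmem i)
    haveI : Module.Finite ℤ P := Module.Finite.span_of_finite ℤ (Set.finite_range e)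
    let μ : sat e →ₗ[ℤ] P := LinearMap.codRestrict P (M • (sat e).subtype) hmemM
    have hμ : Function.Injective μ := by
      rw [injective_iff_map_eq_zero]
      intro x hx
      exact Subtype.ext (eq_zero_of_zsmul b hani hM (congrArg Subtype.val hx))
    refine (LinearMap.finrank_le_finrank_of_injective hμ).trans (le_of_eq ?_)
    exact (finrank_span_eq_card he).trans (Fintype.card_fin n)
  let f : Fin n → G := fun i => (bs (Fin.cast hfull.symm i) : G)
  have hf : ∀ y, y ∈ sat e → ∃ c : Fin n → ℤ, y = ∑ i, c i • f i := fun y hy =>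
    ⟨fun i => bs.repr ⟨y, hy⟩ (Fin.cast hfull.symm i), by
      conv_lhs => rw [show y = ((⟨y, hy⟩ : sat e) : G) from rfl, ← bs.sum_repr ⟨y, hy⟩, Submodule.coe_sum]
      exact (Fintype.sum_equiv (finCongr hfull.symm) _ _ fun i => rfl).symm⟩
  have hfi : LinearIndependent ℤ f :=
    (bs.linearIndependent.comp _ (Fin.cast_injective hfull.symm)).map' (sat e).subtype (Submodule.ker_subtype _)
  simpa using LinearIndependent.fintype_card_le_finrank
    (linearIndependent_padic b hint hani T hsat e f hf (fun i => (bs _).2) hfi)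

include hint hani hsat in
/-- The bound: the group is finite free of bounded rank. -/
theorem finite_free : Module.Free ℤ G ∧ Module.Finite ℤ G ∧ Module.finrank ℤ G ≤ Module.finrank ℤ_[l] V := by
  classical
  haveI : Module.IsTorsionFree ℤ G := Module.IsTorsionFree.of_smul_eq_zero fun m x h => by
    by_cases hm : m = 0
    · exact Or.inl hm
    · exact Or.inr (eq_zero_of_zsmul b hani hm h)
  let S := {n : ℕ | ∃ e : Fin n → G, LinearIndependent ℤ e}
  have hbdd : BddAbove S := ⟨_, fun n ⟨e, he⟩ => card_le b hint hani T hsat e he⟩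
  have hne : S.Nonempty := ⟨0, Fin.elim0, linearIndependent_empty_type⟩
  obtain ⟨e, he⟩ := Nat.sSup_mem hne hbdd
  have hall : ∀ x : G, x ∈ sat e := by
    intro x
    by_contra hx
    have hno : sSup S + 1 ∈ S := by
      refine ⟨Fin.cons x e, Fintype.linearIndependent_iff.2 fun g hg => ?_⟩
      simp only [Fin.sum_univ_succ, Fin.cons_zero, Fin.cons_succ] at hg
      have h0 : g 0 = 0 := by
        by_contra h0
        refine hx ⟨g 0, h0, ?_⟩
        rw [eq_neg_of_add_eq_zero_left hg]
        exact neg_mem (Submodule.sum_mem _ fun i _ => Submodule.smul_mem _ _ (Submodule.subset_span ⟨i, rfl⟩))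
      rw [h0, zero_smul, zero_add] at hg
      exact Fin.cases h0 (Fintype.linearIndependent_iff.1 he _ hg)
    have := le_csSup hbdd hno
    omega
  haveI : Module.Finite ℤ (sat e) := finite_sat b hint hani e
  haveI hfin : Module.Finite ℤ G :=
    Module.Finite.of_surjective (sat e).subtype fun x => ⟨⟨x, hall x⟩, rfl⟩
  haveI : Module.Free ℤ G := inferInstance
  refine ⟨inferInstance, hfin, ?_⟩
  exact card_le b hint hani T hsat _ (Module.finBasis ℤ G).linearIndependent

end Groth.Agent.LatticeBound

namespace Groth.Agent.LatticeBound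

variable {G : Type*} [AddCommGroup G] (b : G →+ G →+ ℚ) (hint : ∀ x y, ∃ z : ℤ, b x y = z)
  (hani : ∀ x, x ≠ 0 → b x x ≠ 0) {l : ℕ} [Fact l.Prime] {V : Type*} [AddCommGroup V] [Module ℤ_[l] V]
  [Module.Free ℤ_[l] V] [Module.Finite ℤ_[l] V] (T : G →+ V)
  (hsat : ∀ (n : ℕ) (x : G) (v : V), T x = ((l : ℤ_[l]) ^ n) • v → ∃ y, ((l : ℤ) ^ n) • y = x)

include hint hani hsat in
/-- Independent elements stay independent over `ℤ_l`. -/
theorem linearIndependent_map {n : ℕ} (e : Fin n → G) (he : LinearIndependent ℤ e) :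
    LinearIndependent ℤ_[l] fun i => T (e i) := by
  classical
  obtain ⟨hfree, hfin, -⟩ := finite_free b hint hani T hsat
  haveI := hfree; haveI := hfin
  let bs := Module.finBasis ℤ G
  have hT : LinearIndependent ℤ_[l] fun j => T (bs j) :=
    linearIndependent_padic b hint hani T hsat _ bs (fun y _ => ⟨fun j => bs.repr y j, (bs.sum_repr y).symm⟩)
      (fun j => ⟨1, one_ne_zero, by rw [one_smul]; exact Submodule.subset_span ⟨j, rfl⟩⟩) bs.linearIndependent
  let M : Matrix (Fin n) (Fin (Module.finrank ℤ G)) ℤ := fun i j => bs.repr (e i) j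
  have hM : LinearIndependent ℤ M.row := he.map' bs.equivFun.toLinearMap bs.equivFun.ker
  have hMl : LinearIndependent ℤ_[l] (M.map (Int.castRingHom ℤ_[l])).row := by
    have hq : LinearIndependent ℚ (M.map (Int.castRingHom ℚ)).row := by
      refine (LinearIndependent.iff_fractionRing (R := ℤ) (K := ℚ)).1 ?_
      exact hM.map' (LinearMap.pi fun j => (Algebra.linearMap ℤ ℚ).comp (LinearMap.proj j))
        (LinearMap.ker_eq_bot.2 fun x y h => funext fun j => Int.cast_injective (α := ℚ) (congrFun h j))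
    rw [← Matrix.vecMul_injective_iff] at hq
    obtain ⟨N, hN⟩ : ∃ N : Matrix (Fin (Module.finrank ℤ G)) (Fin n) ℚ, M.map (Int.castRingHom ℚ) * N = 1 := by
      obtain ⟨g, hg⟩ := LinearMap.exists_leftInverse_of_injective (Matrix.vecMulLinear (M.map (Int.castRingHom ℚ)))
        (LinearMap.ker_eq_bot.2 hq)
      refine ⟨fun j i => g (Pi.single j 1) i, ?_⟩
      ext i i'
      have h := congrFun (LinearMap.congr_fun hg (Pi.single i 1)) i'
      rw [LinearMap.comp_apply, Matrix.vecMulLinear_apply, Matrix.single_one_vecMul,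
        pi_eq_sum_univ' ((M.map (Int.castRingHom ℚ)).row i), map_sum, Finset.sum_apply] at h
      simp only [map_smul, Pi.smul_apply, smul_eq_mul, LinearMap.id_apply] at h
      rw [Matrix.mul_apply]
      refine h.trans ?_
      simp [Matrix.one_apply, Pi.single_apply, eq_comm]
    rw [← Matrix.vecMul_injective_iff]
    intro x y hxy
    have h1 : Matrix.vecMul (fun i => (x i : ℚ_[l])) (M.map (Int.castRingHom ℚ_[l])) =
        Matrix.vecMul (fun i => (y i : ℚ_[l])) (M.map (Int.castRingHom ℚ_[l])) := by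
      funext j
      have := congrArg (fun z : ℤ_[l] => (z : ℚ_[l])) (congrFun hxy j)
      simpa [Matrix.vecMul, dotProduct] using this
    have h2 : M.map (Int.castRingHom ℚ_[l]) * N.map (algebraMap ℚ ℚ_[l]) = (1 : Matrix (Fin n) (Fin n) ℚ_[l]) := by
      have := congrArg (fun A : Matrix (Fin n) (Fin n) ℚ => A.map (algebraMap ℚ ℚ_[l])) hN
      simp only [Matrix.map_mul, Matrix.map_one _ (map_zero _) (map_one _), Matrix.map_map] at this
      rw [← this]
      congr 1
    have h3 := congrArg (fun v => Matrix.vecMul v (N.map (algebraMap ℚ ℚ_[l]))) h1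
    simp only [Matrix.vecMul_vecMul, h2, Matrix.vecMul_one] at h3
    exact funext fun i => Subtype.coe_injective (congrFun h3 i)
  rw [Fintype.linearIndependent_iff]
  intro a ha
  have e0 : ∑ j, (∑ i, a i * (M i j : ℤ_[l])) • T (bs j) = 0 := by
    rw [← ha]
    simp only [Finset.sum_smul]
    rw [Finset.sum_comm]
    refine Finset.sum_congr rfl fun i _ => ?_
    conv_rhs => rw [← bs.sum_repr (e i), map_sum, Finset.smul_sum]
    refine Finset.sum_congr rfl fun j _ => ?_
    rw [map_zsmul, mul_smul, Int.cast_smul_eq_zsmul]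
  have h0 := Fintype.linearIndependent_iff.1 hT _ e0
  have h1 := Fintype.linearIndependent_iff.1 hMl a (funext fun j => by
    simpa [Finset.sum_apply] using h0 j)
  exact h1

end Groth.Agent.LatticeBound
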