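/-
A discrete valuation ring with prescribed algebraic residue field extension and ramification index one.
-/
import Mathlib.RingTheory.Valuation.ValuationSubring
import Mathlib.RingTheory.Valuation.LocalSubring
import Mathlib.RingTheory.DiscreteValuationRing.Basic
import Mathlib.FieldTheory.PurelyInseparable.Basic
import Mathlib.FieldTheory.IsAlgClosed.AlgebraicClosure
import Mathlib.RingTheory.Polynomial.ScaleRoots
import Mathlib.RingTheory.Localization.Integral
import Mathlib.Order.Zorn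
import Mathlib.RingTheory.Polynomial.RationalRoot
import Mathlib.RingTheory.DedekindDomain.Dvr

open Polynomial IntermediateField

namespace Groth.Agent.L26.ResidueLift

universe u

variable {K Ω : Type u} [Field K] [Field Ω] [Algebra K Ω] (W : ValuationSubring Ω)

local notation "ρ" => IsLocalRing.residue W

/-- every value of `L` is a value of `K` -/
def SameValues (L : IntermediateField K Ω) : Prop :=
  ∀ x ∈ L, x ≠ 0 → ∃ a : K, W.valuation x = W.valuation (algebraMap K Ω a)

/-- the residue field of `L` lies in `k''` -/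
def ResidueIn (k'' : Subfield (IsLocalRing.ResidueField W)) (L : IntermediateField K Ω) : Prop :=
  ∀ x : W, (x : Ω) ∈ L → ρ x ∈ k''

/-- the residue field of an intermediate field -/
def resField (L : IntermediateField K Ω) : Subfield (IsLocalRing.ResidueField W) where
  carrier := {r | ∃ x : W, (x : Ω) ∈ L ∧ ρ x = r}
  one_mem' := ⟨1, L.one_mem, map_one _⟩
  zero_mem' := ⟨0, L.zero_mem, map_zero _⟩
  add_mem' := by
    rintro _ _ ⟨x, hx, rfl⟩ ⟨y, hy, rfl⟩
    exact ⟨x + y, L.add_mem hx hy, map_add _ _ _⟩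
  mul_mem' := by
    rintro _ _ ⟨x, hx, rfl⟩ ⟨y, hy, rfl⟩
    exact ⟨x * y, L.mul_mem hx hy, map_mul _ _ _⟩
  neg_mem' := by
    rintro _ ⟨x, hx, rfl⟩
    exact ⟨-x, L.neg_mem hx, map_neg _ _⟩
  inv_mem' := by
    rintro _ ⟨x, hx, rfl⟩
    by_cases h : ρ x = 0
    · exact ⟨0, L.zero_mem, by rw [map_zero, h, inv_zero]⟩
    · obtain ⟨u, rfl⟩ := (IsLocalRing.residue_ne_zero_iff_isUnit x).1 h
      refine ⟨(u⁻¹ : Wˣ), ?_, map_units_inv _ u⟩
      have e : ((u⁻¹ : Wˣ) : W).1 = ((u : W) : Ω)⁻¹ :=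
        eq_inv_of_mul_eq_one_left (congrArg Subtype.val u.inv_mul :)
      rw [e]
      exact L.inv_mem hx

lemma mem_W_of_root {θ : Ω} {G : W[X]} (hG : G.Monic) (h : aeval θ G = 0) : θ ∈ W := by
  obtain ⟨y, rfl⟩ := IsIntegrallyClosed.isIntegral_iff.1 (⟨G, hG, h⟩ : IsIntegral W θ)
  exact y.2

/-- Lifting roots: a root of the reduction of a monic polynomial is the reduction of a root. -/
lemma exists_root_lift [IsAlgClosed Ω] {G : W[X]} (hG : G.Monic)
    {α : IsLocalRing.ResidueField W} (hα : (G.map (ρ)).IsRoot α) :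
    ∃ θ : W, G.IsRoot θ ∧ ρ θ = α := by
  classical
  have hs : (G.map (algebraMap W Ω)).Splits := IsAlgClosed.splits _
  have hmem : ∀ θ ∈ (G.map (algebraMap W Ω)).roots, θ ∈ W := fun θ hθ =>
    mem_W_of_root W hG (by rw [aeval_def, ← eval_map]; exact (mem_roots'.1 hθ).2)
  let s : Multiset W := (G.map (algebraMap W Ω)).roots.attach.map fun θ => ⟨θ.1, hmem θ.1 θ.2⟩
  have hG' : G = (s.map fun θ => X - C θ).prod := by
    refine map_injective (algebraMap W Ω) Subtype.val_injective ?_
    rw [Polynomial.map_multiset_prod, Multiset.map_map, Multiset.map_map]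
    simp only [Function.comp_def, Polynomial.map_sub, map_X, map_C]
    rw [show (fun θ : {θ // θ ∈ (G.map (algebraMap W Ω)).roots} => X - C (algebraMap W Ω ⟨θ.1, hmem θ.1 θ.2⟩)) =
      (fun θ : Ω => X - C θ) ∘ Subtype.val from rfl, ← Multiset.map_map, Multiset.attach_map_val]
    exact hs.eq_prod_roots_of_monic (hG.map _)
  have h0 := hα
  rw [hG', Polynomial.map_multiset_prod, Multiset.map_map, IsRoot.def, eval_multiset_prod,
    Multiset.prod_eq_zero_iff, Multiset.map_map, Multiset.mem_map] at h0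
  obtain ⟨θ, hθs, hθ⟩ := h0
  refine ⟨θ, ?_, ?_⟩
  · rw [hG', IsRoot.def, eval_multiset_prod, Multiset.prod_eq_zero_iff, Multiset.map_map,
      Multiset.mem_map]
    exact ⟨θ, hθs, by simp⟩
  · simp only [Function.comp_apply, Polynomial.map_sub, map_X, map_C, eval_sub, eval_X, eval_C] at hθ
    exact (sub_eq_zero.1 hθ).symm

theorem isAlgClosed_residue [IsAlgClosed Ω] : IsAlgClosed (IsLocalRing.ResidueField W) := by
  refine IsAlgClosed.of_exists_root _ fun g hg hirr => ?_
  have hl : g ∈ lifts (ρ) := (lifts_iff_coeff_lifts _).2 fun i => IsLocalRing.residue_surjective _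
  obtain ⟨G, hGmap, hGd, hGm⟩ := lifts_and_natDegree_eq_and_monic hl hg
  obtain ⟨θ, hθ⟩ := IsAlgClosed.exists_root (G.map (algebraMap W Ω)) (by
    rw [degree_map_eq_of_injective Subtype.val_injective]
    intro h
    have h1 : g.natDegree = 0 := by rw [← hGd]; exact natDegree_eq_of_degree_eq_some h
    exact absurd hirr.natDegree_pos (by omega))
  have hθ' : aeval θ G = 0 := by rw [aeval_def, ← eval_map]; exact hθ
  refine ⟨ρ ⟨θ, mem_W_of_root W hGm hθ'⟩, ?_⟩
  rw [← hGmap, eval_map, eval₂_at_apply]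
  have : G.eval (⟨θ, mem_W_of_root W hGm hθ'⟩ : W) = 0 := Subtype.val_injective (by
    show algebraMap W Ω (G.eval _) = 0
    rw [← aeval_algebraMap_apply_eq_algebraMap_eval]
    exact hθ')
  rw [this, map_zero]

variable {W}

/-- A field of separable elements with the same values, maximal for having residues in `k''`, has residue
field `k''`. -/
theorem exists_le_resField [IsAlgClosed Ω]
    (π : K) (hπ0 : π ≠ 0) (hπ : W.valuation (algebraMap K Ω π) < 1)
    (k'' : Subfield (IsLocalRing.ResidueField W))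
    (hsv : ∀ x : K, x ≠ 0 → ∃ a : K, W.valuation (algebraMap K Ω x) = W.valuation (algebraMap K Ω a))
    (hres : ∀ (x : W) (a : K), (x : Ω) = algebraMap K Ω a → ρ x ∈ k'')
    (halg : ∀ r ∈ k'', ∀ F : Subfield (IsLocalRing.ResidueField W),
      (∀ (x : W) (a : K), (x : Ω) = algebraMap K Ω a → ρ x ∈ F) → IsIntegral F r) :
    ∃ L : IntermediateField K Ω, L ≤ separableClosure K Ω ∧ SameValues W L ∧ ResidueIn W k'' L ∧
      k'' ≤ resField W L := by
  classical
  let S : Set (IntermediateField K Ω) :=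
    {L | L ≤ separableClosure K Ω ∧ SameValues W L ∧ ResidueIn W k'' L}
  have hbot : (⊥ : IntermediateField K Ω) ∈ S := by
    refine ⟨bot_le, fun x hx hx0 => ?_, fun x hx => ?_⟩
    · obtain ⟨a, rfl⟩ := IntermediateField.mem_bot.1 hx
      exact hsv a (fun h => hx0 (by rw [h, map_zero]))
    · obtain ⟨a, ha⟩ := IntermediateField.mem_bot.1 hx
      exact hres x a ha.symm
  obtain ⟨L, hL⟩ := zorn_le₀ S fun c hc hchain => by
    rcases c.eq_empty_or_nonempty with rfl | hne
    · exact ⟨⊥, hbot, fun z hz => absurd hz (Set.notMem_empty _)⟩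
    have : Nonempty c := hne.to_subtype
    have hdir : Directed (· ≤ ·) fun L : c => (L : IntermediateField K Ω) :=
      (directedOn_iff_directed.1 hchain.directedOn)
    have hmem : ∀ x ∈ (⨆ L : c, (L : IntermediateField K Ω)), ∃ L : c, x ∈ (L : IntermediateField K Ω) := by
      intro x hx
      have h := IntermediateField.coe_iSup_of_directed hdir
      rw [← SetLike.mem_coe, h, Set.mem_iUnion] at hx
      exact hx
    refine ⟨⨆ L : c, (L : IntermediateField K Ω), ⟨iSup_le fun L => (hc L.2).1, fun x hx hx0 => ?_,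
      fun x hx => ?_⟩, fun z hz => le_iSup (fun L : c => (L : IntermediateField K Ω)) ⟨z, hz⟩⟩
    · obtain ⟨L, hxL⟩ := hmem x hx
      exact (hc L.2).2.1 x hxL hx0
    · obtain ⟨L, hxL⟩ := hmem _ hx
      exact (hc L.2).2.2 x hxL
  obtain ⟨⟨hsep, hval, hresL⟩, hmax⟩ := hL
  refine ⟨L, hsep, hval, hresL, fun α hα => ?_⟩
  by_contra hαL
  set F := resField W L with hF
  have hαi : IsIntegral F α :=
    halg α hα F fun x a ha => ⟨x, ha ▸ L.algebraMap_mem a, rfl⟩
  set g := minpoly F α with hgdef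
  set d := g.natDegree with hd
  have hd2 : 2 ≤ d := by
    by_contra h
    push Not at h
    have h1 : d = 1 := le_antisymm (by omega) (minpoly.natDegree_pos hαi)
    obtain ⟨c, hc⟩ := minpoly.natDegree_eq_one_iff.1 h1
    exact hαL (hc ▸ c.2)
  -- a lift with nonzero derivative
  obtain ⟨G, hGm, hGd, hGmap, hG'⟩ : ∃ G : W[X], G.Monic ∧ G.natDegree = d ∧
      G.map (ρ) = g.map F.subtype ∧ (∀ i, ((G.coeff i : W) : Ω) ∈ L) ∧ derivative G ≠ 0 := by
    let T : Subring W := L.toSubfield.toSubring.comap W.subtype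
    have hl : g.map F.subtype ∈ lifts ((ρ).comp T.subtype) := (lifts_iff_coeff_lifts _).2 fun i => by
      obtain ⟨x, hx, hx'⟩ := (g.coeff i).2
      exact ⟨⟨x, hx⟩, by rw [coeff_map]; exact hx'⟩
    obtain ⟨G₀, hG₀, hG₀d, hG₀m⟩ := lifts_and_natDegree_eq_and_monic hl ((minpoly.monic hαi).map _)
    rw [natDegree_map] at hG₀d
    set G₁ := G₀.map T.subtype with hG₁
    have hG₁m : G₁.Monic := hG₀m.map _
    have hG₁d : G₁.natDegree = d := by rw [hG₁, hG₀m.natDegree_map, hG₀d]
    have hG₁map : G₁.map (ρ) = g.map F.subtype := by rw [hG₁, Polynomial.map_map, hG₀]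
    have hG₁L : ∀ i, ((G₁.coeff i : W) : Ω) ∈ L := fun i => by
      rw [hG₁, coeff_map]; exact (G₀.coeff i).2
    by_cases hder : derivative G₁ = 0
    · let p : W := ⟨algebraMap K Ω π, (W.valuation_le_one_iff _).1 hπ.le⟩
      have hlt : (C p * X).degree < G₁.degree := by
        rw [degree_eq_natDegree hG₁m.ne_zero, hG₁d]
        exact lt_of_le_of_lt (degree_C_mul_X_le _) (by exact_mod_cast hd2)
      refine ⟨G₁ + C p * X, hG₁m.add_of_left hlt, ?_, ?_, fun i => ?_, ?_⟩
      · rw [natDegree_add_eq_left_of_degree_lt hlt, hG₁d]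
      · have hp0 : ρ p = 0 := (IsLocalRing.residue_eq_zero_iff _).2 ((W.valuation_lt_one_iff p).2 hπ)
        rw [Polynomial.map_add, Polynomial.map_mul, map_C, hp0, map_zero, zero_mul, add_zero, hG₁map]
      · rw [coeff_add, coeff_C_mul, coeff_X]
        split_ifs with h1
        · rw [mul_one]; exact L.add_mem (hG₁L i) (L.algebraMap_mem π)
        · rw [mul_zero, add_zero]; exact hG₁L i
      · rw [derivative_add, hder, zero_add, derivative_C_mul, derivative_X, mul_one, Ne, C_eq_zero]
        exact fun h => hπ0 ((map_eq_zero (algebraMap K Ω)).1 (congrArg Subtype.val h))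
    · exact ⟨G₁, hG₁m, hG₁d, hG₁map, hG₁L, hder⟩
  obtain ⟨hGL, hder⟩ := hG'
  obtain ⟨θ, hθ0, hθα⟩ := exists_root_lift W hGm (α := α) (by
    rw [hGmap, IsRoot.def, eval_map]
    exact minpoly.aeval F α)
  -- the polynomial over `L`
  let GP : L[X] := ∑ i ∈ Finset.range (d + 1), C (⟨_, hGL i⟩ : L) * X ^ i
  have hGL' : GP.map (algebraMap L Ω) = G.map (algebraMap W Ω) := by
    ext i
    rw [coeff_map, coeff_map, finsetSum_coeff]
    simp only [coeff_C_mul_X_pow]
    rw [Finset.sum_ite_eq]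
    split_ifs with hi
    · rfl
    · rw [coeff_eq_zero_of_natDegree_lt (by rw [hGd]; simp at hi; omega : G.natDegree < i), map_zero, map_zero]
  have hGLm : GP.Monic := Polynomial.monic_of_injective (algebraMap L Ω).injective (hGL' ▸ hGm.map _)
  have hGLd : GP.natDegree = d := by
    rw [← natDegree_map (algebraMap L Ω), hGL', hGm.natDegree_map, hGd]
  have hθL0 : aeval (θ : Ω) GP = 0 := by
    rw [aeval_def, ← eval_map, hGL', eval_map, ← aeval_def]
    exact (aeval_algebraMap_apply_eq_algebraMap_eval θ G).trans (by rw [show G.eval θ = 0 from hθ0, map_zero])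
  -- values of combinations
  have key : ∀ c : Fin d → L, c ≠ 0 → ∃ (j : Fin d), W.valuation (∑ i, (c i : Ω) * (θ : Ω) ^ (i : ℕ)) =
      W.valuation (c j : Ω) ∧ (c j : Ω) ≠ 0 ∧ ∀ i, W.valuation (c i : Ω) ≤ W.valuation (c j : Ω) := by
    intro c hc
    have hne : (Finset.univ : Finset (Fin d)).Nonempty := ⟨⟨0, by omega⟩, Finset.mem_univ _⟩
    obtain ⟨j, -, hj⟩ := Finset.exists_max_image Finset.univ (fun i => W.valuation (c i : Ω)) hne
    have hcj : (c j : Ω) ≠ 0 := fun h0 => hc (funext fun i => Subtype.ext (by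
      have h1 := hj i (Finset.mem_univ i)
      rw [h0, map_zero, le_zero_iff, Valuation.zero_iff] at h1
      exact h1))
    refine ⟨j, ?_, hcj, fun i => hj i (Finset.mem_univ i)⟩
    let b : Fin d → W := fun i => ⟨(c i : Ω) / (c j : Ω), (W.valuation_le_one_iff _).1 (by
      rw [map_div₀]; exact (div_le_one₀ (zero_lt_iff.2 ((Valuation.ne_zero_iff _).2 hcj))).2 (hj i (Finset.mem_univ i)))⟩
    have hbL : ∀ i, ρ (b i) ∈ F := fun i => ⟨b i, L.div_mem (c i).2 (c j).2, rfl⟩
    have hu : ρ (∑ i, b i * θ ^ (i : ℕ)) ≠ 0 := fun h0 => by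
      rw [map_sum] at h0
      simp only [map_mul, map_pow, hθα] at h0
      have hdeg : (∑ i : Fin d, C (⟨_, hbL i⟩ : F) * X ^ (i : ℕ)).degree < g.degree := by
        rw [degree_eq_natDegree (minpoly.ne_zero hαi)]
        exact degree_sum_fin_lt _
      have hz := minpoly.degree_le_of_ne_zero F α (p := ∑ i : Fin d, C (⟨_, hbL i⟩ : F) * X ^ (i : ℕ))
        (fun h1 => by
          have h2 := congrArg (fun p => coeff p (j : ℕ)) h1
          simp only [finsetSum_coeff, coeff_C_mul_X_pow, coeff_zero, Fin.val_inj, Finset.sum_ite_eq,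
            Finset.mem_univ, if_true] at h2
          have h3 : ρ (b j) = 0 := congrArg Subtype.val h2
          rw [show b j = 1 from Subtype.ext (div_self hcj), map_one] at h3
          exact one_ne_zero h3)
        (by simp only [map_sum, map_mul, aeval_C, aeval_X_pow]; exact h0)
      exact absurd hz (not_le.2 hdeg)
    have h1 : W.valuation ((∑ i, b i * θ ^ (i : ℕ) : W) : Ω) = 1 :=
      (W.valuation_eq_one_iff _).1 ((IsLocalRing.residue_ne_zero_iff_isUnit _).1 hu)
    have h2 : (∑ i, (c i : Ω) * (θ : Ω) ^ (i : ℕ)) = (c j : Ω) * ((∑ i, b i * θ ^ (i : ℕ) : W) : Ω) := by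
      rw [show ((∑ i, b i * θ ^ (i : ℕ) : W) : Ω) = W.subtype (∑ i, b i * θ ^ (i : ℕ)) from rfl,
        map_sum, Finset.mul_sum]
      refine Finset.sum_congr rfl fun i _ => ?_
      rw [map_mul, map_pow]
      show (c i : Ω) * (θ : Ω) ^ (i : ℕ) = (c j : Ω) * ((c i : Ω) / (c j : Ω) * (θ : Ω) ^ (i : ℕ))
      rw [← mul_assoc, mul_div_cancel₀ _ hcj]
    rw [h2, map_mul, h1, mul_one]
  have hcomb : ∀ p : L[X], p.natDegree < d →
      aeval (θ : Ω) p = ∑ i : Fin d, ((p.coeff i : L) : Ω) * (θ : Ω) ^ (i : ℕ) := fun p hp => by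
    rw [aeval_eq_sum_range' hp, Fin.sum_univ_eq_sum_range fun i => ((p.coeff i : L) : Ω) * (θ : Ω) ^ i]
    exact Finset.sum_congr rfl fun i _ => Algebra.smul_def _ _
  have hθi : IsIntegral L (θ : Ω) := ⟨GP, hGLm, hθL0⟩
  have hmin : GP = minpoly L (θ : Ω) := by
    refine eq_of_monic_of_dvd_of_natDegree_le (minpoly.monic hθi) hGLm (minpoly.dvd _ _ hθL0) ?_
    by_contra hlt
    push Not at hlt
    have h0 := minpoly.aeval L (θ : Ω)
    rw [hcomb _ (hGLd ▸ hlt)] at h0
    obtain ⟨j, hj, hcj, -⟩ := key (fun i : Fin d => (minpoly L (θ : Ω)).coeff i) (fun h1 => by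
      have := congrFun h1 ⟨(minpoly L (θ : Ω)).natDegree, hGLd ▸ hlt⟩
      simp [(minpoly.monic hθi).coeff_natDegree] at this)
    rw [h0, map_zero] at hj
    exact hcj ((Valuation.zero_iff _).1 hj.symm)
  have hGLsep : GP.Separable := by
    rw [hmin]
    refine (separable_iff_derivative_ne_zero (minpoly.irreducible hθi)).2 fun h0 => hder ?_
    rw [← hmin] at h0
    refine map_injective (algebraMap W Ω) Subtype.val_injective ?_
    rw [← derivative_map, ← hGL', derivative_map, h0, Polynomial.map_zero, Polynomial.map_zero]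
  let L' : IntermediateField K Ω := (L⟮(θ : Ω)⟯).restrictScalars K
  have hmemL' : ∀ x ∈ L', ∃ c : Fin d → L, x = ∑ i, (c i : Ω) * (θ : Ω) ^ (i : ℕ) := fun x hx => by
    have hx' : x ∈ (L⟮(θ : Ω)⟯).toSubalgebra := hx
    rw [IntermediateField.adjoin_simple_toSubalgebra_of_isAlgebraic hθi.isAlgebraic,
      Algebra.adjoin_singleton_eq_range_aeval] at hx'
    obtain ⟨p, rfl⟩ := hx'
    refine ⟨fun i => (p %ₘ GP).coeff i, ?_⟩
    show aeval (θ : Ω) p = _
    rw [← hcomb _ (hGLd ▸ natDegree_modByMonic_lt p hGLm (fun h1 => by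
      rw [h1, natDegree_one] at hGLd; omega)), modByMonic_eq_sub_mul_div _ GP, map_sub, map_mul, hθL0,
      zero_mul, sub_zero]
  have hL'S : L' ∈ S := by
    refine ⟨fun x hx => ?_, fun x hx hx0 => ?_, fun x hx => ?_⟩
    · have : Algebra.IsSeparable K L := (le_separableClosure_iff K Ω L).1 hsep
      have : Algebra.IsSeparable L L⟮(θ : Ω)⟯ :=
        (isSeparable_adjoin_simple_iff_isSeparable L Ω).2 (by rw [IsSeparable, ← hmin]; exact hGLsep)
      refine mem_separableClosure_iff.2 (IsSeparable.of_algebra_isSeparable_of_isSeparable (E := L) K ?_)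
      have h1 := Algebra.IsSeparable.isSeparable L (⟨x, hx⟩ : L⟮(θ : Ω)⟯)
      rw [IsSeparable] at h1 ⊢
      rwa [← IntermediateField.minpoly_eq (⟨x, hx⟩ : L⟮(θ : Ω)⟯)]
    · obtain ⟨c, rfl⟩ := hmemL' x hx
      obtain ⟨j, hj, hcj, -⟩ := key c (fun h0 => hx0 (by simp [h0]))
      rw [hj]
      exact hval _ (c j).2 hcj
    · obtain ⟨c, hc⟩ := hmemL' _ hx
      by_cases hc0 : c = 0
      · have : x = 0 := Subtype.ext (by rw [hc, hc0]; simp)
        rw [this, map_zero]; exact zero_mem _
      obtain ⟨j, hj, hcj, hle⟩ := key c hc0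
      have hcW : ∀ i, (c i : Ω) ∈ W := fun i => (W.valuation_le_one_iff _).1
        ((hle i).trans (by rw [← hj, ← hc]; exact W.valuation_le_one x))
      rw [show x = ∑ i, (⟨_, hcW i⟩ : W) * θ ^ (i : ℕ) from Subtype.ext (hc.trans (by
        rw [show ((∑ i, (⟨_, hcW i⟩ : W) * θ ^ (i : ℕ) : W) : Ω) = W.subtype (∑ i, (⟨_, hcW i⟩ : W) * θ ^ (i : ℕ)) from rfl,
          map_sum]
        exact Finset.sum_congr rfl fun i _ => by rw [map_mul, map_pow]; rfl)), map_sum]
      refine sum_mem fun i _ => ?_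
      rw [map_mul, map_pow, hθα]
      exact mul_mem (hresL _ (c i).2) (pow_mem hα _)
  have hle' : L ≤ L' := fun x hx => (L⟮(θ : Ω)⟯).algebraMap_mem ⟨x, hx⟩
  exact hαL ⟨θ, hmax hL'S hle' (mem_adjoin_simple_self L (θ : Ω)), hθα⟩

/-- The main theorem. -/
theorem exists_dvr_extension (OK : Type u) [CommRing OK] [IsDomain OK] [IsDiscreteValuationRing OK]
    (k' : Type u) [Field k'] [Algebra (IsLocalRing.ResidueField OK) k']
    [Algebra.IsAlgebraic (IsLocalRing.ResidueField OK) k'] :
    ∃ (OL : Type u) (_ : CommRing OL) (_ : IsDomain OL) (_ : IsDiscreteValuationRing OL) (φ : OK →+* OL),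
      Function.Injective φ ∧ IsLocalHom φ ∧
      Ideal.map φ (IsLocalRing.maximalIdeal OK) = IsLocalRing.maximalIdeal OL ∧
      (∃ e : IsLocalRing.ResidueField OL ≃+* k',
        ∀ a : OK, e (IsLocalRing.residue OL (φ a)) = algebraMap (IsLocalRing.ResidueField OK) k' (IsLocalRing.residue OK a)) ∧
      ∀ x : OL, ∃ p : Polynomial OK, (p.map (algebraMap OK (FractionRing OK))).Separable ∧ Polynomial.eval₂ φ x p = 0 := by
  classical
  let K := FractionRing OK
  let Ω := AlgebraicClosure K
  obtain ⟨ϖ, hϖ⟩ := IsDiscreteValuationRing.exists_irreducible OK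
  let π : K := algebraMap OK K ϖ
  have hπ0 : π ≠ 0 := (map_ne_zero_iff _ (IsFractionRing.injective OK K)).2 hϖ.ne_zero
  let iO : OK →+* Ω := (algebraMap K Ω).comp (algebraMap OK K)
  have hiO : Function.Injective iO := (algebraMap K Ω).injective.comp (IsFractionRing.injective OK K)
  -- a valuation ring over `OK`
  set w := algebraMap K Ω π⁻¹ with hw
  have hwi : ¬ IsIntegral OK w := fun hi => by
    obtain ⟨r, hr⟩ := IsIntegrallyClosed.isIntegral_iff.1
      ((isIntegral_algebraMap_iff (algebraMap K Ω).injective).1 hi)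
    refine hϖ.not_isUnit (IsUnit.of_mul_eq_one r (IsFractionRing.injective OK K ?_))
    rw [map_mul, hr, map_one]
    exact mul_inv_cancel₀ hπ0
  let S₀ : Subring Ω := (integralClosure OK Ω).toSubring
  have : IsIntegrallyClosedIn S₀ Ω := inferInstanceAs (IsIntegrallyClosedIn (integralClosure OK Ω) Ω)
  obtain ⟨W, hSW, hwW⟩ := S₀.exists_le_valuationSubring_of_isIntegrallyClosedIn (x := w) hwi
  have hOW : ∀ a : OK, iO a ∈ W := fun a => by
    show algebraMap K Ω (algebraMap OK K a) ∈ W
    rw [← IsScalarTower.algebraMap_apply]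
    exact hSW (isIntegral_algebraMap : IsIntegral OK (algebraMap OK Ω a))
  have hπv : W.valuation (algebraMap K Ω π) < 1 := by
    have hw0 : w ≠ 0 := by rw [hw]; exact (_root_.map_ne_zero _).2 (inv_ne_zero hπ0)
    have h1 : w⁻¹ ∈ W.nonunits := W.mem_nonunits_iff_or.2 (Or.inr (by rwa [inv_inv]))
    rw [hw, ← map_inv₀, inv_inv] at h1
    exact (W.mem_nonunits_iff).1 h1
  let φW : OK →+* W :=
    { toFun := fun a => ⟨iO a, hOW a⟩
      map_one' := Subtype.ext (map_one _)
      map_mul' := fun a b => Subtype.ext (map_mul _ a b)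
      map_zero' := Subtype.ext (map_zero _)
      map_add' := fun a b => Subtype.ext (map_add _ a b) }
  have hlocW : IsLocalHom φW := ⟨fun a ha => by
    by_contra h
    obtain ⟨b, rfl⟩ : ϖ ∣ a := Ideal.mem_span_singleton.1 (hϖ.maximalIdeal_eq ▸ h)
    rw [map_mul] at ha
    exact hπv.ne ((W.valuation_eq_one_iff _).1 (isUnit_of_mul_isUnit_left ha))⟩
  have hunit : ∀ a : OKˣ, W.valuation (iO a) = 1 := fun a =>
    (W.valuation_eq_one_iff (φW a)).1 (a.isUnit.map φW)
  have hKval : ∀ x : K, x ≠ 0 → ∃ n : ℤ, W.valuation (algebraMap K Ω x) = W.valuation (algebraMap K Ω π) ^ n := by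
    intro x hx
    obtain ⟨a, b, hb, rfl⟩ := IsFractionRing.div_surjective (A := OK) x
    have ha : a ≠ 0 := fun h => hx (by rw [h, map_zero, zero_div])
    obtain ⟨m, u, rfl⟩ := IsDiscreteValuationRing.eq_unit_mul_pow_irreducible ha hϖ
    obtain ⟨n, v, rfl⟩ := IsDiscreteValuationRing.eq_unit_mul_pow_irreducible (nonZeroDivisors.ne_zero hb) hϖ
    refine ⟨(m : ℤ) - n, ?_⟩
    simp only [map_mul, map_pow, map_div₀]
    rw [show W.valuation (algebraMap K Ω (algebraMap OK K (u : OK))) = 1 from hunit u,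
      show W.valuation (algebraMap K Ω (algebraMap OK K (v : OK))) = 1 from hunit v, one_mul, one_mul,
      zpow_sub₀ ((Valuation.ne_zero_iff _).2 ((_root_.map_ne_zero _).2 hπ0)), zpow_natCast, zpow_natCast]
  -- residue fields
  let kW := IsLocalRing.ResidueField W
  have : IsAlgClosed kW := isAlgClosed_residue W
  letI : Algebra (IsLocalRing.ResidueField OK) kW := (IsLocalRing.ResidueField.map φW).toAlgebra
  let j : k' →ₐ[IsLocalRing.ResidueField OK] kW := IsAlgClosed.lift
  let k'' : Subfield kW := j.toRingHom.fieldRange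
  have hK'' : ∀ (x : W) (a : K), (x : Ω) = algebraMap K Ω a → ∃ b : OK, IsLocalRing.residue W x =
      algebraMap (IsLocalRing.ResidueField OK) kW (IsLocalRing.residue OK b) := fun x a hxa => by
    rcases eq_or_ne a 0 with rfl | ha
    · refine ⟨0, ?_⟩
      rw [show x = 0 from Subtype.ext (hxa.trans (map_zero _))]
      simp
    obtain ⟨n, hn⟩ := hKval a ha
    have hn0 : 0 ≤ n := by
      by_contra h
      push Not at h
      have h1 : W.valuation (algebraMap K Ω a) ≤ 1 := hxa ▸ W.valuation_le_one x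
      rw [hn] at h1
      exact absurd h1 (not_le.2 (one_lt_zpow_of_neg₀ (zero_lt_iff.2 ((Valuation.ne_zero_iff _).2 ((_root_.map_ne_zero _).2 hπ0))) hπv h))
    obtain ⟨c, d, hd, rfl⟩ := IsFractionRing.div_surjective (A := OK) a
    obtain ⟨b, hb⟩ : d ∣ c := by
      rcases ValuationRing.dvd_total d c with h | ⟨e, he⟩
      · exact h
      · have hc0 : c ≠ 0 := fun h => nonZeroDivisors.ne_zero hd (by rw [he, h, zero_mul])
        have h1 : W.valuation (algebraMap K Ω (algebraMap OK K c / algebraMap OK K d)) ≤ 1 :=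
          hxa ▸ W.valuation_le_one x
        rw [he, map_mul, div_mul_cancel_left₀ ((map_ne_zero_iff _ (IsFractionRing.injective OK K)).2 hc0),
          map_inv₀, map_inv₀] at h1
        have he0 : e ≠ 0 := fun h => nonZeroDivisors.ne_zero hd (by rw [he, h, mul_zero])
        have h2 : 1 ≤ W.valuation (iO e) :=
          (inv_le_one₀ (zero_lt_iff.2 ((Valuation.ne_zero_iff _).2 ((map_ne_zero_iff _ hiO).2 he0)))).1 h1
        have h3 : IsUnit (φW e) := (W.valuation_eq_one_iff _).2 (le_antisymm (W.valuation_le_one (φW e)) h2)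
        exact ⟨((IsUnit.of_map φW e h3).unit⁻¹ : OKˣ), by rw [he, mul_assoc, IsUnit.mul_val_inv, mul_one]⟩
    refine ⟨b, ?_⟩
    rw [show x = φW b from Subtype.ext (hxa.trans (by
      show _ = algebraMap K Ω (algebraMap OK K b)
      rw [hb, map_mul, mul_div_cancel_left₀ _ ((map_ne_zero_iff _ (IsFractionRing.injective OK K)).2 (nonZeroDivisors.ne_zero hd))]))]
    rfl
  obtain ⟨L, hsep, hval, hresL, hle⟩ := exists_le_resField (W := W) π hπ0 hπv k''
    (fun x hx => ⟨x, rfl⟩)
    (fun x a hxa => by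
      obtain ⟨b, hb⟩ := hK'' x a hxa
      exact ⟨algebraMap _ k' (IsLocalRing.residue OK b), by rw [hb]; exact j.commutes _⟩)
    (fun r hr F hF => by
      obtain ⟨c, rfl⟩ := hr
      have hc : IsIntegral (IsLocalRing.ResidueField OK) (j c) :=
        (Algebra.IsAlgebraic.isAlgebraic c).isIntegral.map j
      let ψ : IsLocalRing.ResidueField OK →+* F :=
        (algebraMap (IsLocalRing.ResidueField OK) kW).codRestrict F fun a => by
          obtain ⟨b, rfl⟩ := IsLocalRing.residue_surjective a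
          exact hF (φW b) (algebraMap OK K b) rfl
      exact hc.map_of_comp_eq ψ (RingHom.id kW) (by ext; rfl))
  -- the ring
  let OL : ValuationSubring L := W.comap (algebraMap L Ω)
  let incl : OL →+* W :=
    { toFun := fun x => ⟨((x : L) : Ω), x.2⟩
      map_one' := rfl
      map_mul' := fun _ _ => rfl
      map_zero' := rfl
      map_add' := fun _ _ => rfl }
  have hinclloc : IsLocalHom incl := ⟨fun x hx => by
    have h1 := (W.valuation_eq_one_iff _).1 hx
    change W.valuation ((x : L) : Ω) = 1 at h1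
    have hx0 : ((x : L) : Ω) ≠ 0 := fun h => by
      rw [h, map_zero] at h1
      exact zero_ne_one h1
    have hmem : (x : L)⁻¹ ∈ OL := by
      show (((x : L)⁻¹ : L) : Ω) ∈ W
      rw [IntermediateField.coe_inv]
      exact (W.valuation_le_one_iff _).1 (by rw [map_inv₀, h1, inv_one])
    exact IsUnit.of_mul_eq_one ⟨_, hmem⟩ (Subtype.ext (mul_inv_cancel₀ fun h => hx0 (by rw [h]; rfl)))⟩
  let φ : OK →+* OL :=
    { toFun := fun a => ⟨algebraMap K L (algebraMap OK K a), hOW a⟩
      map_one' := Subtype.ext (by simp)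
      map_mul' := fun a b => Subtype.ext (by simp)
      map_zero' := Subtype.ext (by simp)
      map_add' := fun a b => Subtype.ext (by simp) }
  have hincφ : ∀ a, incl (φ a) = φW a := fun a => rfl
  have hϖnu : ¬ IsUnit (φ ϖ) := fun h => hπv.ne ((W.valuation_eq_one_iff _).1 (hincφ ϖ ▸ h.map incl))
  have hfac : ∀ x : OL, x ≠ 0 → ∃ (n : ℕ) (u : OLˣ), x = φ ϖ ^ n * u := by
    intro x hx
    have hx0 : ((x : L) : Ω) ≠ 0 := fun h => hx (Subtype.ext (Subtype.ext h))
    obtain ⟨a, ha⟩ := hval _ (x : L).2 hx0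
    have ha0 : a ≠ 0 := fun h => hx0 ((Valuation.zero_iff _).1 (by rw [ha, h, map_zero, map_zero]))
    obtain ⟨n, hn⟩ := hKval a ha0
    rw [← ha] at hn
    have hn0 : 0 ≤ n := by
      by_contra h
      push Not at h
      exact absurd (hn ▸ W.valuation_le_one (incl x)) (not_le.2 (one_lt_zpow_of_neg₀
        (zero_lt_iff.2 ((Valuation.ne_zero_iff _).2 ((_root_.map_ne_zero _).2 hπ0))) hπv h))
    obtain ⟨m, rfl⟩ := Int.eq_ofNat_of_zero_le hn0
    rw [zpow_natCast] at hn
    have hv : W.valuation ((((x : L) / algebraMap K L π ^ m : L)) : Ω) = 1 := by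
      show W.valuation (algebraMap L Ω ((x : L) / algebraMap K L π ^ m)) = 1
      rw [map_div₀, map_pow, ← IsScalarTower.algebraMap_apply, map_div₀, map_pow]
      show W.valuation ((x : L) : Ω) / _ = 1
      rw [hn, div_self (pow_ne_zero _ ((Valuation.ne_zero_iff _).2 ((_root_.map_ne_zero _).2 hπ0)))]
    have hmem : (x : L) / algebraMap K L π ^ m ∈ OL := (W.valuation_le_one_iff _).1 hv.le
    have hu : IsUnit (⟨_, hmem⟩ : OL) :=
      IsUnit.of_map incl _ ((W.valuation_eq_one_iff _).2 hv)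
    refine ⟨m, hu.unit, Subtype.ext ?_⟩
    show (x : L) = (algebraMap K L π) ^ m * ((x : L) / algebraMap K L π ^ m)
    rw [mul_div_cancel₀ _ (pow_ne_zero _ ((_root_.map_ne_zero _).2 hπ0))]
  have hirr : Irreducible (φ ϖ) := ⟨hϖnu, fun a b hab => by
    by_contra h
    push Not at h
    have hlt : ∀ c : OL, ¬ IsUnit c → W.valuation ((c : L) : Ω) ≤ W.valuation (algebraMap K Ω π) := fun c hc => by
      rcases eq_or_ne c 0 with rfl | hc0
      · simp
      obtain ⟨n, u, rfl⟩ := hfac c hc0
      have hn : n ≠ 0 := fun h0 => hc (by rw [h0, pow_zero, one_mul]; exact u.isUnit)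
      show W.valuation (W.subtype (incl (φ ϖ ^ n * u))) ≤ _
      rw [map_mul, map_pow, map_mul, map_pow, map_mul, map_pow]
      refine (mul_le_of_le_one_right' (W.valuation_le_one (incl u))).trans ?_
      exact pow_le_of_le_one zero_le hπv.le hn
    have h1 : W.valuation (algebraMap K Ω π) ≤ W.valuation (algebraMap K Ω π) * W.valuation (algebraMap K Ω π) := by
      calc W.valuation (algebraMap K Ω π) = W.valuation (W.subtype (incl (φ ϖ))) := rfl
        _ = W.valuation ((a : L) : Ω) * W.valuation ((b : L) : Ω) := by rw [hab, map_mul, map_mul, map_mul]; rfl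
        _ ≤ _ := mul_le_mul' (hlt a h.1) (hlt b h.2)
    exact absurd h1 (not_le.2 (mul_lt_of_lt_one_right
      (zero_lt_iff.2 ((Valuation.ne_zero_iff _).2 ((_root_.map_ne_zero _).2 hπ0))) hπv))⟩
  have hdvr : IsDiscreteValuationRing OL :=
    IsDiscreteValuationRing.ofHasUnitMulPowIrreducibleFactorization ⟨φ ϖ, hirr, fun {x} hx => by
      obtain ⟨n, u, rfl⟩ := hfac x hx; exact ⟨n, Associated.symm ⟨u⁻¹, by simp⟩⟩⟩
  have hmapmax : Ideal.map φ (IsLocalRing.maximalIdeal OK) = IsLocalRing.maximalIdeal OL := by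
    rw [hϖ.maximalIdeal_eq, Ideal.map_span, Set.image_singleton, hirr.maximalIdeal_eq]
  let r : IsLocalRing.ResidueField OL →+* kW := IsLocalRing.ResidueField.map incl
  have hrrange : ∀ y, r y ∈ k'' := fun y => by
    obtain ⟨x, rfl⟩ := IsLocalRing.residue_surjective y
    exact hresL (incl x) (x : L).2
  let r' : IsLocalRing.ResidueField OL →+* k'' := r.codRestrict k'' hrrange
  have hr' : Function.Bijective r' := ⟨r'.injective, fun ⟨c, hc⟩ => by
    obtain ⟨x, hxL, hxc⟩ := hle hc
    exact ⟨IsLocalRing.residue OL ⟨⟨(x : Ω), hxL⟩, x.2⟩, Subtype.ext hxc⟩⟩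
  let j' : k' →+* k'' := j.toRingHom.rangeRestrictField
  have hj' : Function.Bijective j' := ⟨j'.injective, fun ⟨c, d, hd⟩ => ⟨d, Subtype.ext hd⟩⟩
  let e := (RingEquiv.ofBijective r' hr').trans (RingEquiv.ofBijective j' hj').symm
  refine ⟨OL, inferInstance, inferInstance, hdvr, φ, fun a b hab => hiO (congrArg (fun x : OL => ((x : L) : Ω)) hab),
    ⟨fun a ha => ?_⟩, hmapmax, ⟨e, fun a => ?_⟩, fun x => ?_⟩
  · exact IsUnit.of_map φW a (hincφ a ▸ ha.map incl)
  · refine (RingEquiv.ofBijective j' hj').symm_apply_eq.2 (Subtype.ext ?_)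
    show r (IsLocalRing.residue OL (φ a)) = j (algebraMap _ k' (IsLocalRing.residue OK a))
    rw [j.commutes]
    rfl
  · have hxs : IsSeparable K ((x : L) : Ω) := mem_separableClosure_iff.1 (hsep (x : L).2)
    obtain ⟨b, hb⟩ := IsLocalization.integerNormalization_map_to_map (nonZeroDivisors OK) (minpoly K ((x : L) : Ω))
    refine ⟨IsLocalization.integerNormalization (nonZeroDivisors OK) (minpoly K ((x : L) : Ω)), ?_, ?_⟩
    · rw [hb, Algebra.smul_def, Polynomial.algebraMap_apply]
      have hu : IsUnit (algebraMap OK K (b : OK)) :=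
        (IsLocalization.map_units K b)
      exact hxs.unit_mul (hu.map Polynomial.C)
    · refine Subtype.val_injective (Subtype.val_injective ?_)
      show (algebraMap L Ω).comp OL.subtype _ = (((0 : OL) : L) : Ω)
      rw [hom_eval₂, show ((algebraMap L Ω).comp OL.subtype).comp φ = (algebraMap K Ω).comp (algebraMap OK K) from rfl,
        ← eval₂_map, hb]
      show aeval ((x : L) : Ω) ((b : OK) • minpoly K ((x : L) : Ω)) = _
      rw [AlgHom.map_smul_of_tower, minpoly.aeval, smul_zero]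
      rfl

end Groth.Agent.L26.ResidueLift
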