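/-
Multiplicative polynomial forms on `ℤ[X]` are norms: the case of the degree of endomorphisms.
-/
import Mathlib.Algebra.MvPolynomial.Funext
import Mathlib.RingTheory.MvPolynomial.Homogeneous
import Mathlib.LinearAlgebra.Lagrange
import Mathlib.NumberTheory.Padics.Complex
import Mathlib.FieldTheory.IsAlgClosed.Basic

set_option autoImplicit false

noncomputable section

namespace Groth.Agent.FormNorm

open Polynomial

variable (d : ℕ) (D : ℤ[X] → ℚ) (Q : (N : ℕ) → MvPolynomial (Fin (N + 1)) ℚ)

/-- The data of a multiplicative polynomial form of degree `d`. -/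
structure Spec : Prop where
  even : Even d
  one : D 1 = 1
  mul : ∀ G H, D (G * H) = D G * D H
  hom : (Q 1).IsHomogeneous d
  eval : ∀ (N : ℕ) (G : ℤ[X]), G.natDegree ≤ N →
    D G = MvPolynomial.eval (fun i : Fin (N + 1) => (G.coeff (i : ℕ) : ℚ)) (Q N)

/-- The polynomial `n ↦ D (X - n)`. -/
def char : ℚ[X] := MvPolynomial.aeval ![-(X : ℚ[X]), 1] (Q 1)

variable {d D Q} (h : Spec d D Q)

/-- The form evaluated at the coefficients of a polynomial over a field. -/
def ev {K : Type*} [Field K] [Algebra ℚ K] (Q : (N : ℕ) → MvPolynomial (Fin (N + 1)) ℚ) (N : ℕ) (G : K[X]) : K :=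
  MvPolynomial.aeval (fun i : Fin (N + 1) => G.coeff (i : ℕ)) (Q N)

theorem eval_char {K : Type*} [Field K] [Algebra ℚ K] (c : K) :
    aeval c (char Q) = MvPolynomial.aeval ![-c, 1] (Q 1) := by
  rw [char, MvPolynomial.comp_aeval_apply]
  congr 1
  refine congrArg _ (_root_.funext fun i => ?_)
  fin_cases i <;> simp

theorem ev_X_sub_C {K : Type*} [Field K] [Algebra ℚ K] (c : K) :
    ev Q 1 (X - C c) = aeval c (char Q) := by
  rw [eval_char, ev]
  congr 1
  refine congrArg _ (_root_.funext fun i => ?_)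
  fin_cases i <;> simp

include h

theorem monic_natDegree_char : (char Q).Monic ∧ (char Q).natDegree = d := by
  have key : (char Q).natDegree ≤ d ∧ (char Q).coeff d = MvPolynomial.eval ![-1, 0] (Q 1) := by
    have e : char Q = ∑ m ∈ (Q 1).support, C ((Q 1).coeff m) * ((-X) ^ m 0 * 1 ^ m 1) := by
      rw [char, MvPolynomial.aeval_def, MvPolynomial.eval₂_eq']
      simp only [Fin.prod_univ_two]
      rfl
    have hm : ∀ m ∈ (Q 1).support, m 0 + m 1 = d := fun m hm => by
      have := h.hom.degree_eq_sum_deg_support hm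
      rw [this, Finset.sum_subset (Finset.subset_univ _) (fun i _ hi => by simpa using hi),
        Fin.sum_univ_two]
    have hpow : ∀ n : ℕ, (-X : ℚ[X]) ^ n = C ((-1) ^ n) * X ^ n := fun n => by
      rw [neg_pow, map_pow, map_neg, map_one]
    refine ⟨?_, ?_⟩
    · rw [e]
      refine natDegree_sum_le_of_forall_le _ _ fun m hmm => ?_
      rw [one_pow, mul_one, hpow, ← mul_assoc, ← map_mul]
      exact (natDegree_C_mul_X_pow_le _ _).trans (by have := hm m hmm; omega)
    · rw [e, finsetSum_coeff, MvPolynomial.eval_eq']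
      refine Finset.sum_congr rfl fun m hmm => ?_
      rw [one_pow, mul_one, hpow, ← mul_assoc, ← map_mul, coeff_C_mul_X_pow, Fin.prod_univ_two]
      have := hm m hmm
      rcases Nat.eq_zero_or_pos (m 1) with h1 | h1
      · rw [if_pos (by omega), h1]
        simp
      · rw [if_neg (by omega)]
        simp [zero_pow h1.ne']
  have h1 : MvPolynomial.eval ![-1, 0] (Q 1) = 1 := by
    have e1 : ∀ c : ℚ, MvPolynomial.eval ![c, 0] (Q 1) = c ^ d * MvPolynomial.eval ![1, 0] (Q 1) := by
      intro c
      rw [MvPolynomial.eval_eq', MvPolynomial.eval_eq', Finset.mul_sum]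
      refine Finset.sum_congr rfl fun m hm => ?_
      have hd := h.hom.degree_eq_sum_deg_support hm
      rw [Finset.sum_subset (Finset.subset_univ _) (fun i _ hi => by simpa using hi), Fin.sum_univ_two] at hd
      simp only [Fin.prod_univ_two]
      rcases Nat.eq_zero_or_pos (m 1) with h1 | h1
      · rw [hd, h1, add_zero]
        simp
        ring
      · simp [zero_pow h1.ne']
    have e2 : MvPolynomial.eval ![1, 0] (Q 1) = 1 := by
      have hh := h.eval 1 1 (by simp)
      rw [h.one] at hh
      convert hh.symm using 2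
      refine congrArg _ (_root_.funext fun i => ?_)
      fin_cases i <;> simp [coeff_one]
    rw [e1, e2, h.even.neg_one_pow, mul_one]
  refine ⟨monic_of_natDegree_le_of_coeff_eq_one d key.1 (key.2.trans h1), ?_⟩
  exact le_antisymm key.1 (le_natDegree_of_ne_zero (by rw [key.2, h1]; exact one_ne_zero))

theorem eval_char_int (n : ℤ) : (char Q).eval (n : ℚ) = D (X - C n) := by
  rw [h.eval 1 _ (natDegree_X_sub_C_le n), ← coe_aeval_eq_eval, eval_char, ← MvPolynomial.aeval_eq_eval]
  congr 1
  refine congrArg _ (_root_.funext fun i => ?_)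
  fin_cases i <;> simp [coeff_X, coeff_C, -eq_intCast]

variable {K : Type*} [Field K] [Algebra ℚ K]

theorem ev_int (N : ℕ) (G : ℤ[X]) (hG : G.natDegree ≤ N) :
    ev Q N (G.map (algebraMap ℤ K)) = algebraMap ℚ K (D G) := by
  rw [h.eval N G hG, ev, ← MvPolynomial.aeval_eq_eval]
  refine Eq.trans ?_ (MvPolynomial.aeval_algebraMap_apply (R := ℚ) (A := ℚ) K
    (fun i : Fin (N + 1) => (G.coeff (i : ℕ) : ℚ)) (Q N))
  congr 1
  refine congrArg _ (_root_.funext fun i => ?_)
  simp [Polynomial.coeff_map]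

theorem ev_mul_X_sub_C (N : ℕ) (G : K[X]) (hG : G.natDegree ≤ N) (c : K) :
    ev Q (N + 1) (G * (X - C c)) = ev Q N G * aeval c (char Q) := by
  classical
  let R := MvPolynomial (Fin (N + 1 + 1)) ℚ
  let Gu : R[X] := ∑ i : Fin (N + 1), C (MvPolynomial.X i.castSucc) * X ^ (i : ℕ)
  let cu : R := MvPolynomial.X (Fin.last (N + 1))
  let L : R := MvPolynomial.aeval (fun i : Fin (N + 1 + 1) => (Gu * (X - C cu)).coeff (i : ℕ)) (Q (N + 1))
  let Rt : R := MvPolynomial.aeval (fun i : Fin (N + 1) => Gu.coeff (i : ℕ)) (Q N) *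
    MvPolynomial.aeval ![-cu, 1] (Q 1)
  -- specialisation
  have spec : ∀ {S : Type} [Field S] [Algebra ℚ S] (v : Fin (N + 1 + 1) → S),
      Gu.map (MvPolynomial.aeval v).toRingHom = ∑ i : Fin (N + 1), C (v i.castSucc) * X ^ (i : ℕ) := by
    intro S _ _ v
    simp [Gu, Polynomial.map_sum, MvPolynomial.aeval_X]
  have hgu : ∀ i : Fin (N + 1), Gu.coeff (i : ℕ) = MvPolynomial.X i.castSucc := fun i => by
    simp [Gu, finsetSum_coeff, coeff_C_mul_X_pow, Fin.val_inj]
  have key : L = Rt := by
    refine MvPolynomial.funext_set (fun _ => Set.range (Int.cast : ℤ → ℚ))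
      (fun _ => Set.infinite_range_of_injective Int.cast_injective) fun x hx => ?_
    choose m hm using fun i => hx i (Set.mem_univ i)
    let G0 : ℤ[X] := ∑ i : Fin (N + 1), C (m i.castSucc) * X ^ (i : ℕ)
    let c0 : ℤ := m (Fin.last (N + 1))
    have hG0 : G0.natDegree ≤ N := natDegree_sum_le_of_forall_le _ _ fun i _ =>
      (natDegree_C_mul_X_pow_le _ _).trans (by omega)
    have hmap : Gu.map (MvPolynomial.eval x) = G0.map (Int.castRingHom ℚ) := by
      simp [Gu, G0, Polynomial.map_sum, ← hm]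
    have h2 : (G0 * (X - C c0)).natDegree ≤ N + 1 :=
      (natDegree_mul_le).trans (add_le_add hG0 (natDegree_X_sub_C_le _))
    have e := h.mul G0 (X - C c0)
    rw [h.eval (N + 1) _ h2, h.eval N _ hG0, h.eval 1 _ (natDegree_X_sub_C_le c0)] at e
    have push : ∀ {k : ℕ} (v : Fin k → R) (w : Fin k → ℚ) (q : MvPolynomial (Fin k) ℚ),
        (∀ i, MvPolynomial.eval x (v i) = w i) →
          MvPolynomial.eval x (MvPolynomial.aeval v q) = MvPolynomial.eval w q := by
      intro k v w q hvw
      rw [← MvPolynomial.aeval_eq_eval x, MvPolynomial.comp_aeval_apply, ← MvPolynomial.aeval_eq_eval w]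
      exact congrArg (fun f => MvPolynomial.aeval f q) (_root_.funext fun i => (congrFun (MvPolynomial.aeval_eq_eval x) _).trans (hvw i))
    have hmul : (Gu * (X - C cu)).map (MvPolynomial.eval x) = (G0 * (X - C c0)).map (Int.castRingHom ℚ) := by
      simp only [Polynomial.map_mul, hmap, Polynomial.map_sub, Polynomial.map_X, Polynomial.map_C, cu,
        MvPolynomial.eval_X, c0, ← hm]
      rfl
    have p1 := push (fun i : Fin (N + 1 + 1) => (Gu * (X - C cu)).coeff (i : ℕ)) (fun i => ((G0 * (X - C c0)).coeff (i : ℕ) : ℚ)) (Q (N + 1)) fun i => by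
        have := congrArg (fun p : ℚ[X] => p.coeff (i : ℕ)) hmul
        simpa only [coeff_map, Int.coe_castRingHom] using this
    have p2 := push (fun i : Fin (N + 1) => Gu.coeff (i : ℕ)) (fun i => (G0.coeff (i : ℕ) : ℚ)) (Q N) fun i => by
        have := congrArg (fun p : ℚ[X] => p.coeff (i : ℕ)) hmap
        simpa only [coeff_map, Int.coe_castRingHom] using this
    have p3 := push ![-cu, 1] (fun i => (((X - C c0 : ℤ[X])).coeff (i : ℕ) : ℚ)) (Q 1) fun i => by
        fin_cases i <;> simp [cu, c0, ← hm, coeff_X, coeff_C, -eq_intCast]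
    simp only [L, Rt, map_mul, p1, p2, p3]
    exact e
  let v : Fin (N + 1 + 1) → K := Fin.snoc (fun i : Fin (N + 1) => G.coeff (i : ℕ)) c
  have hGu : Gu.map (MvPolynomial.aeval v).toRingHom = G := by
    conv_rhs => rw [G.as_sum_range_C_mul_X_pow' (Nat.lt_succ_of_le hG), ← Fin.sum_univ_eq_sum_range]
    simp [Gu, Polynomial.map_sum, v]
  have hcu : MvPolynomial.aeval v cu = c := by simp [cu, v]
  have e := congrArg (MvPolynomial.aeval v) key
  simp only [L, Rt, map_mul, MvPolynomial.comp_aeval_apply] at e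
  rw [eval_char, ev, ev]
  convert e using 4
  · rename_i i
    have h3 : (Gu * (X - C cu)).map (MvPolynomial.aeval v).toRingHom = G * (X - C c) := by
      rw [Polynomial.map_mul, hGu, Polynomial.map_sub, Polynomial.map_X, Polynomial.map_C]
      exact congrArg (fun z => G * (X - C z)) hcu
    rw [← h3, coeff_map]
    rfl
  · refine _root_.funext fun i => ?_
    conv_lhs => rw [← hGu, coeff_map]
    rfl
  · refine _root_.funext fun i => ?_
    fin_cases i <;> simp [hcu]

theorem ev_prod (l : List K) :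
    ev Q l.length (l.map fun c => X - C c).prod = (l.map fun c => aeval c (char Q)).prod := by
  induction l with
  | nil =>
    have := ev_int h (K := K) 0 1 (by simp)
    rw [Polynomial.map_one, h.one, map_one] at this
    simpa using this
  | cons c l ih =>
    simp only [List.map_cons, List.prod_cons, List.length_cons]
    rw [mul_comm, ev_mul_X_sub_C h _ _ ?_ c, ih, mul_comm]
    refine (natDegree_list_prod_le _).trans ?_
    refine (List.sum_le_card_nsmul _ 1 ?_).trans (by simp)
    simp only [List.mem_map]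
    rintro _ ⟨_, ⟨a, -, rfl⟩, rfl⟩
    exact natDegree_X_sub_C_le a

theorem norm_formula [IsAlgClosed K] (G : ℤ[X]) (hG : G.Monic) :
    algebraMap ℚ K (D G) = (((char Q).map (algebraMap ℚ K)).roots.map fun a => aeval a G).prod := by
  classical
  obtain ⟨hm, hdeg⟩ := monic_natDegree_char h
  let Gk := G.map (algebraMap ℤ K)
  let Pk := (char Q).map (algebraMap ℚ K)
  have hP : (Pk.roots.map fun a => X - C a).prod = Pk :=
    prod_multiset_X_sub_C_of_monic_of_roots_card_eq (hm.map _) (IsAlgClosed.splits Pk).natDegree_eq_card_roots.symm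
  have hGk : (Gk.roots.map fun a => X - C a).prod = Gk :=
    prod_multiset_X_sub_C_of_monic_of_roots_card_eq (hG.map _) (IsAlgClosed.splits Gk).natDegree_eq_card_roots.symm
  have hd : Multiset.card Pk.roots = d := by
    rw [← (IsAlgClosed.splits Pk).natDegree_eq_card_roots, natDegree_map, hdeg]
  have e1 : algebraMap ℚ K (D G) = ev Q Gk.roots.toList.length (Gk.roots.toList.map fun c => X - C c).prod := by
    rw [← ev_int h _ G ?_]
    · congr 1
      rw [← Multiset.prod_coe, ← Multiset.map_coe, Multiset.coe_toList, hGk]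
    · rw [Multiset.length_toList, ← (IsAlgClosed.splits Gk).natDegree_eq_card_roots, hG.natDegree_map]
  rw [e1, ev_prod h]
  rw [← Multiset.prod_coe, ← Multiset.map_coe, Multiset.coe_toList]
  have e2 : ∀ c : K, aeval c (char Q) = (Pk.roots.map fun a => a - c).prod := by
    intro c
    rw [← eval_map_algebraMap, show (char Q).map (algebraMap ℚ K) = Pk from rfl]
    conv_lhs => rw [← hP]
    rw [eval_multiset_prod, Multiset.map_map]
    simp only [Function.comp_def, eval_sub, eval_X, eval_C]
    have : (Pk.roots.map fun a => c - a) = (Pk.roots.map fun a => (-1) * (a - c)) :=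
      Multiset.map_congr rfl fun a _ => by ring
    rw [this, Multiset.prod_map_mul, Multiset.map_const', Multiset.prod_replicate, hd, h.even.neg_one_pow, one_mul]
  have e3 : ∀ a : K, aeval a G = (Gk.roots.map fun c => a - c).prod := by
    intro a
    rw [← eval_map_algebraMap, show G.map (algebraMap ℤ K) = Gk from rfl]
    conv_lhs => rw [← hGk]
    rw [eval_multiset_prod, Multiset.map_map]
    simp [Function.comp_def]
  simp only [e2, e3]
  exact (Multiset.prod_map_prod_map _ _).trans rfl

omit h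
variable {p : ℕ} [Fact p.Prime]

theorem norm_le_one_of_pow {a : PadicAlgCl p} {C : ℝ} (hC : ∀ j : ℕ, ‖a‖ ^ j ≤ C) : ‖a‖ ≤ 1 := by
  by_contra hh
  obtain ⟨j, hj⟩ := pow_unbounded_of_one_lt C (not_le.1 hh)
  exact absurd (hC j) (not_le.2 hj)

theorem norm_prod_X_sub_C_coeff_le (s : Multiset (PadicAlgCl p)) (hs : ∀ a ∈ s, ‖a‖ ≤ 1) :
    ∀ i, ‖((s.map fun a => X - C a).prod).coeff i‖ ≤ 1 := by
  induction s using Multiset.induction with
  | empty =>
    intro i
    simp only [Multiset.map_zero, Multiset.prod_zero, coeff_one]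
    split <;> simp
  | cons a s ih =>
    intro i
    have ih' := ih fun b hb => hs b (Multiset.mem_cons_of_mem hb)
    rw [Multiset.map_cons, Multiset.prod_cons, sub_mul, coeff_sub, coeff_C_mul]
    rw [sub_eq_add_neg]
    refine (IsUltrametricDist.norm_add_le_max _ _).trans (max_le ?_ ?_)
    · rcases i with _ | i
      · simp
      · rw [coeff_X_mul]; exact ih' i
    · rw [norm_neg, norm_mul]
      exact mul_le_one₀ (hs a (Multiset.mem_cons_self a s)) (norm_nonneg _) (ih' i)

theorem norm_ratCast (q : ℚ) : ‖(q : PadicAlgCl p)‖ = ‖(q : ℚ_[p])‖ := by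
  rw [← PadicAlgCl.norm_extends p (q : ℚ_[p])]
  exact congrArg _ (map_ratCast (algebraMap ℚ_[p] (PadicAlgCl p)) q).symm

/-- Bounded roots of polynomials with integral values at `0, …, d - 1`. -/
theorem exists_root_bound (d : ℕ) : ∃ C : ℝ, ∀ P : (PadicAlgCl p)[X], P.Monic → P.natDegree = d →
    (∀ n : ℕ, n < d → ‖P.eval (n : PadicAlgCl p)‖ ≤ 1) → ∀ b, P.IsRoot b → ‖b‖ ≤ C := by
  classical
  let B := fun i : Fin d => Lagrange.basis (Finset.univ : Finset (Fin d)) (fun j => ((j : ℕ) : PadicAlgCl p)) i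
  let Cb : ℝ := max 1 (∑ i : Fin d, ∑ j : Fin d, ‖(B i).coeff j‖)
  refine ⟨Cb, fun P hP hd hv b hb => ?_⟩
  have hC1 : 1 ≤ Cb := le_max_left _ _
  by_contra hlt
  have hb1 : 1 < ‖b‖ := hC1.trans_lt (not_le.1 hlt)
  have hinj : Set.InjOn (fun j : Fin d => ((j : ℕ) : PadicAlgCl p)) (Finset.univ : Finset (Fin d)) :=
    fun x _ y _ hxy => Fin.ext (Nat.cast_injective (R := PadicAlgCl p) hxy)
  let R := P - X ^ d
  have hRdeg : R.degree < (d : ℕ) := by
    rcases eq_or_ne R 0 with h0 | h0
    · rw [h0, degree_zero]; exact WithBot.bot_lt_coe d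
    · have := degree_sub_lt (p := P) (q := X ^ d) (by rw [degree_X_pow, degree_eq_natDegree hP.ne_zero, hd])
        hP.ne_zero (by rw [hP.leadingCoeff, leadingCoeff_X_pow]; )
      rwa [degree_eq_natDegree hP.ne_zero, hd] at this
  have hR := Lagrange.eq_interpolate (s := (Finset.univ : Finset (Fin d))) hinj
    (f := R) (by simpa using hRdeg)
  have hc : ∀ j : Fin d, ‖R.coeff j‖ ≤ Cb := by
    intro j
    rw [hR, Lagrange.interpolate_apply, finsetSum_coeff]
    refine (norm_sum_le _ _).trans ((Finset.sum_le_sum fun i _ => ?_).trans (le_max_right _ _))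
    rw [coeff_C_mul, norm_mul]
    refine le_trans ?_ (Finset.single_le_sum (f := fun l : Fin d => ‖(B i).coeff l‖) (fun l _ => norm_nonneg _)
      (Finset.mem_univ j))
    refine mul_le_of_le_one_left (norm_nonneg _) ?_
    show ‖eval _ (P - X ^ d)‖ ≤ 1
    rw [eval_sub, eval_pow, eval_X, sub_eq_add_neg]
    refine (IsUltrametricDist.norm_add_le_max _ _).trans (max_le (hv i i.isLt) ?_)
    rw [norm_neg, norm_pow, show ((i : ℕ) : PadicAlgCl p) = (((i : ℕ) : ℚ) : PadicAlgCl p) by norm_cast,
      norm_ratCast]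
    refine pow_le_one₀ (norm_nonneg _) ?_
    rw [Rat.cast_natCast]
    exact_mod_cast Padic.norm_int_le_one (p := p) ((i : ℕ) : ℤ)
  have hev : b ^ d = -∑ j ∈ Finset.range d, R.coeff j * b ^ j := by
    have h1 : R.eval b = -b ^ d := by simp [R, show P.eval b = 0 from hb]
    rcases Nat.eq_zero_or_pos d with rfl | hpos
    · exfalso
      rw [eq_one_of_monic_natDegree_zero hP hd] at hb
      simp [IsRoot] at hb
    rw [← eval_eq_sum_range' (n := d) ?_ b, h1, neg_neg]
    rcases eq_or_ne R 0 with h0 | h0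
    · rw [h0, natDegree_zero]; exact hpos
    · exact (natDegree_lt_iff_degree_lt h0).2 hRdeg
  rcases Nat.eq_zero_or_pos d with rfl | hpos
  · simp at hev
  have h2 : ‖b ^ d‖ ≤ Cb * ‖b‖ ^ (d - 1) := by
    rw [hev, norm_neg]
    refine IsUltrametricDist.norm_sum_le_of_forall_le_of_nonneg (by positivity) fun j hj => ?_
    rw [Finset.mem_range] at hj
    rw [norm_mul, norm_pow]
    exact mul_le_mul (hc ⟨j, hj⟩) (pow_le_pow_right₀ hb1.le (by omega)) (by positivity) (by linarith)
  rw [norm_pow, ← Nat.sub_add_cancel hpos, pow_succ, Nat.add_sub_cancel, mul_comm] at h2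
  exact absurd (le_of_mul_le_mul_right h2 (by positivity)) hlt

theorem den_eq_one_of_norm_le {q : ℚ} (hq : ∀ (r : ℕ) [Fact r.Prime], ‖(q : ℚ_[r])‖ ≤ 1) : q.den = 1 := by
  by_contra hne
  obtain ⟨r, hr, hdvd⟩ := Nat.exists_prime_and_dvd hne
  haveI := Fact.mk hr
  have h1 : ¬ ((r : ℤ) ∣ q.num) := fun hn => hr.ne_one (Nat.dvd_one.1 (q.reduced ▸
    Nat.dvd_gcd (Int.natCast_dvd.1 hn) hdvd))
  have h2 : (q : ℚ_[r]) * (q.den : ℚ_[r]) = (q.num : ℚ_[r]) := by
    exact_mod_cast congrArg (fun z : ℚ => (z : ℚ_[r])) (Rat.mul_den_eq_num q)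
  have h3 := congrArg norm h2
  rw [norm_mul] at h3
  have h4 : ‖(q.num : ℚ_[r])‖ = 1 :=
    le_antisymm (Padic.norm_int_le_one _) (not_lt.1 fun hl => h1 (Padic.norm_intCast_lt_one_iff.1 hl))
  have h5 : ‖(q.den : ℚ_[r])‖ < 1 := by
    rw [show (q.den : ℚ_[r]) = ((q.den : ℤ) : ℚ_[r]) by norm_cast]
    exact Padic.norm_intCast_lt_one_iff.2 (Int.natCast_dvd_natCast.2 hdvd)
  rw [h4] at h3
  nlinarith [norm_nonneg (q.den : ℚ_[r]), norm_nonneg (q : ℚ_[r]), hq r]

include h

/-- The polynomial of an integral form is integral. -/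
theorem exists_int_char (hint : ∀ G, ∃ z : ℤ, D G = z) :
    ∃ P : ℤ[X], P.Monic ∧ P.natDegree = d ∧ P.map (Int.castRingHom ℚ) = char Q := by
  obtain ⟨hm, hdeg⟩ := monic_natDegree_char h
  have hden : ∀ i, ((char Q).coeff i).den = 1 := by
    intro i
    refine den_eq_one_of_norm_le fun r _ => ?_
    let Pk := (char Q).map (algebraMap ℚ (PadicAlgCl r))
    have hcard : Multiset.card Pk.roots = d := by
      rw [← (IsAlgClosed.splits Pk).natDegree_eq_card_roots, natDegree_map, hdeg]
    obtain ⟨C, hC⟩ := exists_root_bound (p := r) d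
    have hroot : ∀ a ∈ Pk.roots, ‖a‖ ≤ 1 := by
      intro a ha
      refine norm_le_one_of_pow (C := max C 1) fun j => ?_
      rcases Nat.eq_zero_or_pos j with rfl | hj
      · simp
      rw [← norm_pow]
      refine le_trans (hC ((Pk.roots.map fun z => X - Polynomial.C (z ^ j)).prod) ?_ ?_ ?_ _ ?_) (le_max_left _ _)
      · exact monic_multiset_prod_of_monic _ _ fun _ _ => monic_X_sub_C _
      · rw [natDegree_multiset_prod_of_monic _ (by
          simp only [Multiset.mem_map]; rintro _ ⟨_, -, rfl⟩; exact monic_X_sub_C _)]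
        rw [Multiset.map_map]
        simp only [Function.comp_def, natDegree_X_sub_C]
        simp [hcard]
      · intro n _
        have hGm : ((X : ℤ[X]) ^ j - Polynomial.C (n : ℤ)).Monic := monic_X_pow_sub_C _ hj.ne'
        have e := norm_formula h (K := PadicAlgCl r) _ hGm
        obtain ⟨z, hz⟩ := hint (X ^ j - Polynomial.C (n : ℤ))
        rw [eval_multiset_prod, Multiset.map_map]
        have : (Pk.roots.map ((eval (n : PadicAlgCl r)) ∘ fun z => X - Polynomial.C (z ^ j))).prod =
            (-1) ^ d * (Pk.roots.map fun a => aeval a ((X : ℤ[X]) ^ j - Polynomial.C (n : ℤ))).prod := by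
          rw [← hcard, ← Multiset.prod_replicate, ← Multiset.map_const', ← Multiset.prod_map_mul]
          refine congrArg _ (Multiset.map_congr rfl fun b _ => ?_)
          simp
        change ‖(Multiset.map _ Pk.roots).prod‖ ≤ 1
        rw [this, show (Pk.roots.map fun a => aeval a ((X : ℤ[X]) ^ j - Polynomial.C (n : ℤ))).prod = _ from e.symm, hz,
          norm_mul, norm_pow, norm_neg, norm_one, one_pow, one_mul, eq_ratCast, norm_ratCast]
        rw [Rat.cast_intCast]
        exact Padic.norm_int_le_one _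
      · rw [IsRoot, eval_multiset_prod, Multiset.map_map, Multiset.prod_eq_zero_iff, Multiset.mem_map]
        exact ⟨a, ha, by simp⟩
    have := norm_prod_X_sub_C_coeff_le Pk.roots hroot i
    rw [prod_multiset_X_sub_C_of_monic_of_roots_card_eq (hm.map _)
      (IsAlgClosed.splits Pk).natDegree_eq_card_roots.symm, coeff_map, eq_ratCast, norm_ratCast] at this
    exact this
  have hlift : char Q ∈ Polynomial.lifts (Int.castRingHom ℚ) := (lifts_iff_coeff_lifts _).2 fun i =>
    ⟨((char Q).coeff i).num, Rat.coe_int_num_of_den_eq_one (hden i)⟩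
  obtain ⟨P, hP, hPd, hPm⟩ := lifts_and_natDegree_eq_and_monic hlift hm
  exact ⟨P, hPm, hPd.trans hdeg, hP⟩

end Groth.Agent.FormNorm
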