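/-
Cokernel of the map of Tate sequences induced by a surjection of divisible groups with finite kernel.
-/
import Mathlib.GroupTheory.OrderOfElement
import Mathlib.Data.Nat.ChineseRemainder
import Mathlib.Algebra.Group.Subgroup.Finite
import Mathlib.RingTheory.UniqueFactorizationDomain.Basic
import Mathlib.RingTheory.Int.Basic
import Mathlib.NumberTheory.Padics.PadicVal.Basic

set_option autoImplicit false

universe u v

namespace Groth.Agent.TateSnake

variable {G : Type u} {H : Type v} [AddCommGroup G] [AddCommGroup H] {l : ℕ}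

/-- Tate sequences. -/
def IsTate (l : ℕ) (x : ℕ → G) : Prop := (∀ n, (l ^ n) • x n = 0) ∧ ∀ n, l • x (n + 1) = x n

theorem IsTate.compat_pow {x : ℕ → G} (hx : IsTate l x) (j m : ℕ) : (l ^ j) • x (m + j) = x m := by
  induction j with
  | zero => rw [pow_zero, one_nsmul]; rfl
  | succ j ih => rw [pow_succ, mul_nsmul', ← Nat.add_assoc, hx.2, ih]

/-- The cokernel of the map on Tate sequences is the primary part of the kernel. -/
theorem main (hl : l.Prime) (F : G →+ H) (hF : Function.Surjective F) [Finite F.ker]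
    (hdiv : ∀ a : G, ∃ b : G, l • b = a) :
    (∀ x, IsTate l x → (∀ n, F (x n) = 0) → ∀ n, x n = 0) ∧
    ∃ (Φ : (ℕ → H) → G) (c : ℕ), ¬ l ∣ c ∧
      (∀ y, IsTate l y → F (Φ y) = 0 ∧ ∃ j : ℕ, (l ^ j) • Φ y = 0) ∧
      (∀ y y', IsTate l y → IsTate l y' → Φ (y + y') = Φ y + Φ y') ∧
      (∀ a, F a = 0 → (∃ j : ℕ, (l ^ j) • a = 0) → ∃ y, IsTate l y ∧ Φ y = a) ∧
      (∀ y, IsTate l y → Φ y = 0 → ∃ x, IsTate l x ∧ ∀ n, F (x n) = c • y n) ∧
      (∀ x, IsTate l x → Φ (fun n => F (x n)) = 0) := by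
  obtain ⟨e, m, hm, hd⟩ : ∃ e m : ℕ, ¬ l ∣ m ∧ Nat.card F.ker = l ^ e * m :=
    Nat.exists_eq_pow_mul_and_not_dvd Nat.card_pos.ne' l hl.ne_one
  have hcop : (l ^ (e + 1)).Coprime m := Nat.Coprime.pow_left _ ((hl.coprime_iff_not_dvd).2 hm)
  obtain ⟨c, hc1, hc0⟩ := Nat.chineseRemainder hcop 1 0
  have hmc : m ∣ c := Nat.modEq_zero_iff_dvd.1 hc0
  have hlc : ¬ l ∣ c := by
    intro h
    have h1 : c ≡ 1 [MOD l] := hc1.of_dvd (dvd_pow_self l e.succ_ne_zero)
    have h2 : 1 ≡ 0 [MOD l] := h1.symm.trans (Nat.modEq_zero_iff_dvd.2 h)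
    exact hl.not_dvd_one (Nat.modEq_zero_iff_dvd.1 h2)
  have hker : ∀ a, F a = 0 → (c * l ^ e) • a = 0 := by
    intro a ha
    obtain ⟨q, hq⟩ := hmc
    have h : Nat.card F.ker • (⟨a, ha⟩ : F.ker) = 0 := card_nsmul_eq_zero'
    have h' : (l ^ e * m) • a = 0 := by rw [← hd]; exact congrArg Subtype.val h
    rw [hq, show m * q * l ^ e = l ^ e * m * q by ring, mul_nsmul, h', nsmul_zero]
  have hprim : ∀ a, F a = 0 → (∃ j : ℕ, (l ^ j) • a = 0) → (l ^ e) • a = 0 := by
    intro a ha ⟨j, hj⟩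
    have h : Nat.card F.ker • (⟨a, ha⟩ : F.ker) = 0 := card_nsmul_eq_zero'
    have h' : (l ^ e * m) • a = 0 := by rw [← hd]; exact congrArg Subtype.val h
    have h1 := addOrderOf_dvd_of_nsmul_eq_zero h'
    have h2 := addOrderOf_dvd_of_nsmul_eq_zero hj
    have h3 : (addOrderOf a).Coprime m :=
      Nat.Coprime.of_dvd_left h2 (Nat.Coprime.pow_left _ ((hl.coprime_iff_not_dvd).2 hm))
    exact addOrderOf_dvd_iff_nsmul_eq_zero.1 (h3.dvd_of_dvd_mul_right h1)
  choose sec hsec using hF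
  let Φ : (ℕ → H) → G := fun y => (c * l ^ e) • sec (y e)
  have hΦ : ∀ (y : ℕ → H) (z : G), F z = y e → (c * l ^ e) • z = Φ y := by
    intro y z hz
    have h := hker (z - sec (y e)) (by rw [map_sub, hz, hsec, sub_self])
    rwa [nsmul_sub, sub_eq_zero] at h
  refine ⟨fun x hx h0 n => ?_, Φ, c, hlc, fun y hy => ⟨?_, e, ?_⟩, fun y y' _ _ => ?_, fun a ha hj => ?_,
    fun y hy h0 => ?_, fun x hx => ?_⟩
  · rw [← hx.compat_pow e n]
    exact hprim _ (h0 _) ⟨n + e, hx.1 _⟩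
  · rw [map_nsmul, hsec, mul_nsmul, smul_comm, hy.1, nsmul_zero]
  · rw [smul_comm]
    exact hker _ (by rw [map_nsmul, hsec, hy.1])
  · rw [← hΦ (y + y') (sec (y e) + sec (y' e)) (by rw [map_add, hsec, hsec]; rfl), nsmul_add]
  · choose d hd' using hdiv
    let z : ℕ → G := fun n => d^[n] a
    have hz : ∀ n, l • z (n + 1) = z n := fun n => by
      show l • d^[n + 1] a = d^[n] a
      rw [Function.iterate_succ_apply', hd']
    have hz0 : ∀ n, (l ^ n) • z n = a := fun n => by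
      induction n with
      | zero => rw [pow_zero, one_nsmul]; rfl
      | succ n ih => rw [pow_succ, mul_nsmul', hz, ih]
    refine ⟨fun n => F (z n), ⟨fun n => by rw [← map_nsmul, hz0, ha],
      fun n => by rw [← map_nsmul, hz]⟩, ?_⟩
    rw [← hΦ (fun n => F (z n)) (z e) rfl, mul_nsmul', hz0]
    have hle := hprim a ha hj
    have hc2 : c ≡ 1 [MOD l ^ e] := hc1.of_dvd (pow_dvd_pow l e.le_succ)
    conv_rhs => rw [← one_nsmul a]
    rw [← Nat.div_add_mod c (l ^ e), add_nsmul, mul_comm, mul_nsmul', hle, nsmul_zero, zero_add, hc2]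
    conv_rhs => rw [← Nat.div_add_mod 1 (l ^ e), add_nsmul, mul_comm, mul_nsmul', hle, nsmul_zero, zero_add]
  · refine ⟨fun n => (c * l ^ e) • sec (y (n + e)), ⟨fun n => ?_, fun n => ?_⟩, fun n => ?_⟩
    · rw [smul_comm, hΦ y _ (by
        rw [map_nsmul, hsec, Nat.add_comm]; exact hy.compat_pow n e), h0]
    · rw [smul_comm]
      have h := hker (l • sec (y (n + 1 + e)) - sec (y (n + e))) (by
        rw [map_sub, map_nsmul, hsec, hsec, show n + 1 + e = n + e + 1 by omega, hy.2, sub_self])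
      rwa [nsmul_sub, sub_eq_zero] at h
    · rw [map_nsmul, hsec, mul_nsmul', hy.compat_pow]
  · rw [← hΦ (fun n => F (x n)) (x e) rfl, mul_nsmul', hx.1, nsmul_zero]

end Groth.Agent.TateSnake
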