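/-
The cardinality of the cokernel of an injective map of free `ℤ_l`-modules is `l ^ v(det)`.
-/
import Mathlib.LinearAlgebra.FreeModule.Finite.Quotient
import Mathlib.LinearAlgebra.Determinant
import Mathlib.NumberTheory.Padics.RingHoms

set_option autoImplicit false

noncomputable section

namespace Groth.Agent.PadicCokerCard

variable {l : ℕ} [Fact l.Prime]

theorem card_quot_span {a : ℤ_[l]} (ha : a ≠ 0) :
    Nat.card (ℤ_[l] ⧸ Ideal.span ({a} : Set ℤ_[l])) = l ^ a.valuation := by
  have h : Ideal.span ({a} : Set ℤ_[l]) = RingHom.ker (PadicInt.toZModPow (p := l) a.valuation) := by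
    rw [PadicInt.ker_toZModPow]
    refine Ideal.span_singleton_eq_span_singleton.2 ?_
    conv_lhs => rw [PadicInt.unitCoeff_spec ha]
    exact ⟨(PadicInt.unitCoeff ha)⁻¹, by rw [mul_right_comm, Units.mul_inv, one_mul]⟩
  rw [h, Nat.card_congr (RingHom.quotientKerEquivOfSurjective
    (ZMod.ringHom_surjective (PadicInt.toZModPow (p := l) a.valuation))).toEquiv, Nat.card_zmod]

theorem valuation_prod {ι : Type*} (s : Finset ι) (a : ι → ℤ_[l]) (ha : ∀ i ∈ s, a i ≠ 0) :
    (∏ i ∈ s, a i).valuation = ∑ i ∈ s, (a i).valuation := by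
  classical
  induction s using Finset.induction with
  | empty => simp
  | insert i t hit ih =>
    rw [Finset.prod_insert hit, Finset.sum_insert hit, PadicInt.valuation_mul (ha i (Finset.mem_insert_self i t))
      (Finset.prod_ne_zero_iff.2 fun j hj => ha j (Finset.mem_insert_of_mem hj)),
      ih fun j hj => ha j (Finset.mem_insert_of_mem hj)]

theorem valuation_eq_of_associated {a b : ℤ_[l]} (h : Associated a b) : a.valuation = b.valuation := by
  rcases eq_or_ne a 0 with rfl | ha
  · rw [show b = 0 from (associated_zero_iff_eq_zero b).1 h.symm]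
  have hb : b ≠ 0 := h.ne_zero_iff.1 ha
  obtain ⟨u, rfl⟩ := h
  rw [PadicInt.valuation_mul ha u.ne_zero]
  have : ((u : ℤ_[l]) * (u⁻¹ : (ℤ_[l])ˣ)).valuation = 0 := by rw [Units.mul_inv, PadicInt.valuation_one]
  rw [PadicInt.valuation_mul u.ne_zero (Units.ne_zero _)] at this
  omega

variable {ι : Type*} [Fintype ι] [DecidableEq ι] {M N : Type*} [AddCommGroup M] [Module ℤ_[l] M] [AddCommGroup N]
  [Module ℤ_[l] N] (bM : Module.Basis ι ℤ_[l] M) (bN : Module.Basis ι ℤ_[l] N)

include bN in
theorem card_coker_end (φ : N →ₗ[ℤ_[l]] N) (hφ : Function.Injective φ) :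
    LinearMap.det φ ≠ 0 ∧ Nat.card (N ⧸ LinearMap.range φ) = l ^ (LinearMap.det φ).valuation := by
  classical
  haveI : Module.Free ℤ_[l] N := Module.Free.of_basis bN
  haveI : Module.Finite ℤ_[l] N := Module.Finite.of_basis bN
  let R := LinearMap.range φ
  let e : N ≃ₗ[ℤ_[l]] R := LinearEquiv.ofInjective φ hφ
  have h : Module.finrank ℤ_[l] R = Module.finrank ℤ_[l] N := e.symm.finrank_eq
  let a := Submodule.smithNormalFormCoeffs bN h
  let b' := Submodule.smithNormalFormTopBasis bN h
  let ab := Submodule.smithNormalFormBotBasis bN h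
  have ha : ∀ i, a i ≠ 0 := fun i => Submodule.smithNormalFormCoeffs_ne_zero bN h i
  let e' : N ≃ₗ[ℤ_[l]] R := b'.equiv ab (Equiv.refl _)
  have hassoc : Associated (LinearMap.det φ) (∏ i, a i) := by
    have h1 : Associated (LinearMap.det (R.subtype ∘ₗ (e : N →ₗ[ℤ_[l]] R)))
        (LinearMap.det (R.subtype ∘ₗ (e' : N →ₗ[ℤ_[l]] R))) := LinearMap.associated_det_comp_equiv _ _ _
    have h2 : R.subtype ∘ₗ (e : N →ₗ[ℤ_[l]] R) = φ := LinearMap.ext fun _ => rfl
    have h3 : LinearMap.det (R.subtype ∘ₗ (e' : N →ₗ[ℤ_[l]] R)) = ∏ i, a i := by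
      rw [← LinearMap.det_toMatrix b', ← Matrix.det_diagonal]
      congr 1
      ext i j
      rw [LinearMap.toMatrix_apply]
      have : (R.subtype ∘ₗ (e' : N →ₗ[ℤ_[l]] R)) (b' j) = a j • b' j := by
        simp only [LinearMap.comp_apply, LinearEquiv.coe_coe, e', Module.Basis.equiv_apply, Equiv.refl_apply]
        exact Submodule.smithNormalFormBotBasis_def bN h j
      rw [this, map_smul, Module.Basis.repr_self, Finsupp.smul_single, smul_eq_mul, mul_one]
      by_cases hij : i = j
      · rw [hij, Matrix.diagonal_apply_eq, Finsupp.single_eq_same]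
      · rw [Matrix.diagonal_apply_ne _ hij, Finsupp.single_eq_of_ne hij]
    rwa [h2, h3] at h1
  refine ⟨hassoc.ne_zero_iff.2 (Finset.prod_ne_zero_iff.2 fun i _ => ha i), ?_⟩
  rw [Nat.card_congr (Submodule.quotientEquivPiSpan R bN h).toEquiv, Nat.card_pi,
    valuation_eq_of_associated hassoc, valuation_prod _ _ fun i _ => ha i, ← Finset.prod_pow_eq_pow_sum]
  exact Finset.prod_congr rfl fun i _ => card_quot_span (ha i)

theorem card_coker (f : M →ₗ[ℤ_[l]] N) (hf : Function.Injective f) :
    (LinearMap.toMatrix bM bN f).det ≠ 0 ∧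
      Nat.card (N ⧸ LinearMap.range f) = l ^ (LinearMap.toMatrix bM bN f).det.valuation := by
  let c : N ≃ₗ[ℤ_[l]] M := bN.equiv bM (Equiv.refl _)
  have h := card_coker_end bN (f ∘ₗ (c : N →ₗ[ℤ_[l]] M)) (hf.comp c.injective)
  have e : LinearMap.toMatrix bN bN (f ∘ₗ (c : N →ₗ[ℤ_[l]] M)) = LinearMap.toMatrix bM bN f := by
    ext i j
    simp [LinearMap.toMatrix_apply, c]
  rw [← LinearMap.det_toMatrix bN, e, LinearMap.range_comp_of_range_eq_top f (LinearEquiv.range c)] at h
  exact h

end Groth.Agent.PadicCokerCard
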