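import Mathlib.LinearAlgebra.Matrix.Vec
import Mathlib.LinearAlgebra.Matrix.Rank
import Mathlib.LinearAlgebra.Matrix.Transvection
import Mathlib.LinearAlgebra.Charpoly.ToMatrix
import Mathlib.LinearAlgebra.Eigenspace.Semisimple
import Mathlib.FieldTheory.IsAlgClosed.AlgebraicClosure
import Mathlib.Algebra.Algebra.Rat

/-! The dimension of the commutant of a semisimple endomorphism in characteristic zero only depends on
the roots of its characteristic polynomial. -/

set_option autoImplicit false

namespace Groth.Agent.CentralizerDim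

open Matrix Polynomial
open scoped Kronecker

variable {F E : Type*} [Field F] [Field E]

/-- The number of pairs of equal entries. -/
noncomputable def pairCount {α : Type*} (R : Multiset α) : ℕ := by
  classical exact (R.map fun x => R.count x).sum

theorem pairCount_map {α β : Type*} (R : Multiset α) (f : α → β) (hf : Function.Injective f) :
    pairCount (R.map f) = pairCount R := by
  classical
  unfold pairCount
  rw [Multiset.map_map]
  exact congrArg Multiset.sum (Multiset.map_congr rfl fun x _ => Multiset.count_map_eq_count' f R hf x)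

theorem rank_map {n : Type*} [Fintype n] (K : Matrix n n F) (f : F →+* E) : (K.map f).rank = K.rank := by
  classical
  obtain ⟨L, L', D, h⟩ := Pivot.exists_list_transvec_mul_mul_list_transvec_eq_diagonal K
  set A := (L.map TransvectionStruct.toMatrix).prod with hA
  set B := (L'.map TransvectionStruct.toMatrix).prod with hB
  have hdA : A.det = 1 := TransvectionStruct.det_toMatrix_prod L
  have hdB : B.det = 1 := TransvectionStruct.det_toMatrix_prod L'
  have h1 : K.rank = (diagonal D).rank := by
    rw [← h, rank_mul_eq_left_of_isUnit_det B _ (hdB ▸ isUnit_one),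
      rank_mul_eq_right_of_isUnit_det A _ (hdA ▸ isUnit_one)]
  have h2 : (K.map f).rank = (diagonal fun i => f (D i)).rank := by
    have hm : A.map f * K.map f * B.map f = diagonal fun i => f (D i) := by
      rw [← Matrix.map_mul, ← Matrix.map_mul, h, diagonal_map (map_zero f)]
    have d1 : (A.map f).det = 1 := (RingHom.map_det f A).symm.trans (by rw [hdA, map_one])
    have d2 : (B.map f).det = 1 := (RingHom.map_det f B).symm.trans (by rw [hdB, map_one])
    rw [← hm, rank_mul_eq_left_of_isUnit_det _ _ (d2 ▸ isUnit_one),
      rank_mul_eq_right_of_isUnit_det _ _ (d1 ▸ isUnit_one)]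
  rw [h1, h2, rank_diagonal, rank_diagonal]
  exact Fintype.card_congr (Equiv.subtypeEquivRight fun i => map_ne_zero f)

/-- Diagonalisation of a matrix killed by a separable polynomial. -/
theorem exists_diagonal [IsAlgClosed E] {n : Type*} [Fintype n] [DecidableEq n] (M : Matrix n n E)
    (m : E[X]) (hm : m.Separable) (h0 : aeval M m = 0) :
    ∃ (U : (Matrix n n E)ˣ) (d : n → E), M = (U : Matrix n n E) * diagonal d * (↑U⁻¹ : Matrix n n E) := by
  classical
  let S : Module.End E (n → E) := Matrix.toLinAlgEquiv' M
  have hS : S.IsSemisimple := Module.End.isSemisimple_of_squarefree_aeval_eq_zero hm.squarefree (by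
    rw [Polynomial.aeval_algHom_apply, h0, map_zero])
  have htop : (⊤ : Submodule E (n → E)) ≤ Submodule.span E {v | ∃ μ : E, S v = μ • v} := by
    rw [← hS.iSup_eigenspace_eq_top]
    refine iSup_le fun μ v hv => Submodule.subset_span ⟨μ, Module.End.mem_eigenspace_iff.1 hv⟩
  obtain ⟨t, hts, hspan, hli⟩ := exists_linearIndependent E {v : n → E | ∃ μ : E, S v = μ • v}
  let c : Module.Basis t E (n → E) := Module.Basis.mk hli (by rw [Subtype.range_coe, hspan]; exact htop)
  haveI : Fintype t := Module.Basis.fintypeIndexOfRankLtAleph0 c (Module.rank_lt_aleph0 E _)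
  have hc : Fintype.card t = Fintype.card n := by
    rw [← Module.finrank_eq_card_basis c, Module.finrank_pi]
  let e : t ≃ n := Fintype.equivOfCardEq hc
  let c' := c.reindex e
  choose μ hμ using fun i : n => (by
    obtain ⟨μ, h⟩ := hts (e.symm i).2
    exact ⟨μ, by rw [Module.Basis.reindex_apply, Module.Basis.mk_apply]; exact h⟩ : ∃ μ : E, S (c' i) = μ • c' i)
  let P := (Pi.basisFun E n).toMatrix c'
  let Q := c'.toMatrix (Pi.basisFun E n)
  refine ⟨⟨P, Q, Module.Basis.toMatrix_mul_toMatrix_flip _ _, Module.Basis.toMatrix_mul_toMatrix_flip _ _⟩, μ, ?_⟩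
  show M = P * diagonal μ * Q
  have h1 : diagonal μ = LinearMap.toMatrix c' c' S := by
    ext i j
    rw [LinearMap.toMatrix_apply, hμ, map_smul, Module.Basis.repr_self]
    rcases eq_or_ne i j with rfl | hij
    · simp
    · simp [diagonal_apply_ne _ hij, hij]
  rw [h1, basis_toMatrix_mul_linearMap_toMatrix_mul_basis_toMatrix, LinearMap.toMatrix_eq_toMatrix']
  exact (LinearMap.toMatrix'_toLin' M).symm

variable {V : Type*} [AddCommGroup V] [Module F V] [FiniteDimensional F V]

theorem finrank_centralizer [CharZero F] (T : Module.End F V) (m : F[X]) (hm : m.Separable)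
    (h0 : aeval T m = 0) (P : ℤ[X]) (hP : T.charpoly = P.map (Int.castRingHom F)) :
    Module.finrank F (LinearMap.ker (LinearMap.lcomp F V T - LinearMap.llcomp F V V V T :
      Module.End F V →ₗ[F] Module.End F V)) =
      pairCount (P.map (Int.castRingHom (AlgebraicClosure ℚ))).roots := by
  classical
  let b := Module.finBasis F V
  let n := Fin (Module.finrank F V)
  set M : Matrix n n F := LinearMap.toMatrix b b T with hM
  let K : Matrix (n × n) (n × n) F := Mᵀ ⊗ₖ 1 - 1 ⊗ₖ M
  let e : Module.End F V ≃ₗ[F] (n × n → F) := (LinearMap.toMatrix b b).trans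
    (LinearEquiv.ofBijective ({ toFun := vec, map_add' := fun _ _ => rfl, map_smul' := fun _ _ => rfl } :
      Matrix n n F →ₗ[F] (n × n → F)) vec_bijective)
  let g : Module.End F V →ₗ[F] Module.End F V := LinearMap.lcomp F V T - LinearMap.llcomp F V V V T
  have hcomm : ∀ X, K.mulVecLin (e X) = e (g X) := fun X => by
    show (Mᵀ ⊗ₖ 1 - 1 ⊗ₖ M) *ᵥ vec (LinearMap.toMatrix b b X) =
      vec (LinearMap.toMatrix b b (X.comp T - T.comp X))
    rw [map_sub, LinearMap.toMatrix_comp b b b, LinearMap.toMatrix_comp b b b, vec_sub, sub_mulVec,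
      kronecker_mulVec_vec, kronecker_mulVec_vec, transpose_transpose, transpose_one, Matrix.one_mul,
      Matrix.mul_one]
  have hker : Module.finrank F (LinearMap.ker g) = Module.finrank F (LinearMap.ker K.mulVecLin) := by
    refine (e.ofSubmodules _ _ ?_).finrank_eq
    ext v
    rw [Submodule.mem_map_equiv, LinearMap.mem_ker, LinearMap.mem_ker]
    have h := hcomm (e.symm v)
    rw [e.apply_symm_apply] at h
    rw [h, e.map_eq_zero_iff]
  have hrn : Module.finrank F (LinearMap.ker K.mulVecLin) + K.rank = Fintype.card (n × n) := by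
    rw [Matrix.rank, _root_.add_comm, LinearMap.finrank_range_add_finrank_ker, Module.finrank_pi]
  -- over an algebraic closure
  let E := AlgebraicClosure F
  let φ : F →+* E := algebraMap F E
  have hMm : aeval M m = 0 := by
    rw [hM]
    exact (aeval_algHom_apply (LinearMap.toMatrixAlgEquiv b) T m).trans (by rw [h0, map_zero])
  obtain ⟨U, d, hU⟩ := exists_diagonal (M.map φ) (m.map φ) hm.map (by
    rw [aeval_map_algebraMap]
    exact (aeval_algHom_apply ((Algebra.ofId F E).mapMatrix) M m).trans (by rw [hMm, map_zero]))
  have hrank : K.rank = Fintype.card {p : n × n // d p.1 - d p.2 ≠ 0} := by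
    rw [← rank_map K φ, ← rank_diagonal]
    have hK : K.map φ = ((↑U⁻¹ : Matrix n n E)ᵀ ⊗ₖ (U : Matrix n n E)) *
        diagonal (fun p : n × n => d p.1 - d p.2) * ((U : Matrix n n E)ᵀ ⊗ₖ (↑U⁻¹ : Matrix n n E)) := by
      have hd : (diagonal fun p : n × n => d p.1 - d p.2) = diagonal d ⊗ₖ 1 - 1 ⊗ₖ diagonal d := by
        rw [← diagonal_one, diagonal_kronecker_diagonal, diagonal_kronecker_diagonal, diagonal_sub]
        simp
      rw [hd, Matrix.mul_sub, Matrix.sub_mul, ← mul_kronecker_mul, ← mul_kronecker_mul, ← mul_kronecker_mul,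
        ← mul_kronecker_mul, Matrix.mul_one, Matrix.mul_one, ← transpose_mul, Units.mul_inv, ← transpose_one,
        ← hU]
      rw [transpose_one, Matrix.map_sub _ (map_sub φ), hU]
      congr 1
      · have : (↑U⁻¹ : Matrix n n E)ᵀ * diagonal d * (U : Matrix n n E)ᵀ = (M.map φ)ᵀ := by
          rw [hU, transpose_mul, transpose_mul, diagonal_transpose, Matrix.mul_assoc]
        rw [this]
        ext ⟨i, j⟩ ⟨k, l⟩
        by_cases h : j = l <;> simp [kroneckerMap_apply, h]
      · rw [← hU]
        ext ⟨i, j⟩ ⟨k, l⟩
        by_cases h : i = k <;> simp [kroneckerMap_apply, h]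
    rw [hK, rank_mul_eq_left_of_isUnit_det, rank_mul_eq_right_of_isUnit_det]
    all_goals
      rw [det_kronecker, det_transpose]
      exact (((Matrix.isUnit_iff_isUnit_det _).1 (Units.isUnit _)).pow _).mul
        (((Matrix.isUnit_iff_isUnit_det _).1 (Units.isUnit _)).pow _)
  have hroots : (P.map (Int.castRingHom E)).roots = (Finset.univ : Finset n).val.map d := by
    have h1 : P.map (Int.castRingHom E) = (M.map φ).charpoly := by
      rw [Matrix.charpoly_map, hM, LinearMap.charpoly_toMatrix, hP, Polynomial.map_map]
      exact congrArg (fun f => P.map f) (RingHom.ext_int _ _)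
    rw [h1, hU, Matrix.coe_units_inv, Matrix.charpoly_units_conj, charpoly_diagonal, Finset.prod_eq_multiset_prod]
    exact (congrArg (fun s => Polynomial.roots (Multiset.prod s)) (Multiset.map_map (fun x => X - C x) d _).symm).trans (roots_multiset_prod_X_sub_C _)
  have hclos : pairCount (P.map (Int.castRingHom (AlgebraicClosure ℚ))).roots =
      pairCount (P.map (Int.castRingHom E)).roots := by
    haveI : CharZero E := charZero_of_injective_ringHom φ.injective
    haveI : Algebra.IsAlgebraic ℚ (AlgebraicClosure ℚ) := by
      convert AlgebraicClosure.isAlgebraic ℚ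
      all_goals first | rfl | exact Subsingleton.elim _ _ | exact Algebra.algebra_ext _ _ fun r => eq_ratCast _ r ▸ (eq_ratCast (α := AlgebraicClosure ℚ) _ r).symm
    let j : AlgebraicClosure ℚ →+* E := (IsAlgClosed.lift (M := E) (R := ℚ) : AlgebraicClosure ℚ →ₐ[ℚ] E).toRingHom
    rw [← RingHom.ext_int (j.comp (Int.castRingHom (AlgebraicClosure ℚ))) (Int.castRingHom E),
      ← Polynomial.map_map, (IsAlgClosed.splits _).roots_map j, pairCount_map _ _ j.injective]
  have hcount : pairCount ((Finset.univ : Finset n).val.map d) = Fintype.card {p : n × n // d p.1 = d p.2} := by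
    unfold pairCount
    rw [Multiset.map_map, Fintype.card_congr (Equiv.subtypeProdEquivSigmaSubtype fun i j => d i = d j),
      Fintype.card_sigma]
    refine congrArg Multiset.sum (Multiset.map_congr rfl fun i _ => ?_)
    simp only [Function.comp_apply]
    rw [Multiset.count_map, Fintype.card_subtype]
    rfl
  rw [hclos, hroots, hcount]
  have hc := Fintype.card_subtype_compl (fun p : n × n => d p.1 = d p.2)
  have hle := Fintype.card_subtype_le (fun p : n × n => d p.1 = d p.2)
  have hrk : K.rank = Fintype.card (n × n) - Fintype.card {p : n × n // d p.1 = d p.2} := by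
    rw [hrank, ← hc]
    exact Fintype.card_congr (Equiv.subtypeEquivRight fun p => sub_ne_zero)
  show Module.finrank F (LinearMap.ker g) = _
  omega

end Groth.Agent.CentralizerDim
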