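import Mathlib.LinearAlgebra.BilinearForm.Properties
import Mathlib.LinearAlgebra.Eigenspace.Basic
import Mathlib.Algebra.Polynomial.Reverse
import Mathlib.Algebra.Polynomial.RingDivision
import Mathlib.RingTheory.Polynomial.Basic
import Mathlib.RingTheory.Artinian.Module
import Mathlib.RingTheory.Coprime.Lemmas
import Mathlib.LinearAlgebra.SesquilinearForm.Basic
import Mathlib.Tactic.Ring

/-! Bilinear forms invariant up to a scalar under an automorphism, and generalized kernels. -/

namespace Groth.L26.Misc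

open Polynomial

universe u v

variable {k : Type u} [Field k] {V : Type v} [AddCommGroup V] [Module k V]
  (B : LinearMap.BilinForm k V)

theorem adjoint_aeval (M : Module.End k V) (hM : ∀ x y, B (M x) (M y) = B x y) (Q : k[X]) (x y : V) :
    B (aeval M Q x) ((M ^ Q.natDegree) y) = B x (aeval M Q.reverse y) := by
  have hpow : ∀ i, ∀ a b, B ((M ^ i) a) ((M ^ i) b) = B a b := by
    intro i
    induction i with
    | zero => intros; rfl
    | succ i ih => intro a b; rw [pow_succ', Module.End.mul_apply, Module.End.mul_apply, hM, ih]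
  rw [aeval_eq_sum_range, aeval_eq_sum_range' (n := Q.natDegree + 1)
    (Nat.lt_succ_of_le (reverse_natDegree_le Q))]
  simp only [LinearMap.sum_apply, LinearMap.smul_apply, map_sum, LinearMap.sum_apply, map_smul,
    smul_eq_mul]
  rw [← Finset.sum_range_reflect]
  refine Finset.sum_congr rfl fun i hi => ?_
  have hi' : i ≤ Q.natDegree := Nat.lt_succ_iff.1 (Finset.mem_range.1 hi)
  rw [coeff_reverse, revAt_le hi', show Q.natDegree + 1 - 1 - i = Q.natDegree - i by omega]
  congr 1
  rw [show Q.natDegree = (Q.natDegree - i) + i by omega, pow_add, Module.End.mul_apply,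
    Nat.add_sub_cancel, hpow]

theorem orth_range {M : V ≃ₗ[k] V} (hM : ∀ x y, B (M x) (M y) = B x y) {P : k[X]} {x : V}
    (hx : aeval (M : Module.End k V) P x = 0) (z : V) :
    B x (aeval (M : Module.End k V) P.reverse z) = 0 := by
  rw [← adjoint_aeval B (M : Module.End k V) hM, hx, map_zero, LinearMap.zero_apply]

theorem gen_ker_orth {M : V ≃ₗ[k] V} (hM : ∀ x y, B (M x) (M y) = B x y) {Q₁ Q₂ : k[X]}
    (h : IsCoprime Q₁.reverse Q₂) {x y : V} {n m : ℕ}
    (hx : (aeval (M : Module.End k V) Q₁ ^ n) x = 0) (hy : (aeval (M : Module.End k V) Q₂ ^ m) y = 0) :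
    B x y = 0 := by
  rw [← map_pow] at hx hy
  have hrev : (Q₁ ^ n).reverse = Q₁.reverse ^ n := by
    clear hx
    induction n with
    | zero => rw [pow_zero, pow_zero, ← C_1, reverse_C]
    | succ n ih => rw [pow_succ, reverse_mul_of_domain, ih, pow_succ]
  have hc : IsCoprime (Q₁ ^ n).reverse (Q₂ ^ m) := by
    rw [hrev]; exact h.pow
  obtain ⟨a, b, hab⟩ := hc
  have e := congrArg (fun R : k[X] => aeval (M : Module.End k V) R y) hab
  rw [mul_comm a] at e
  simp only [map_add, map_mul, map_one, Module.End.one_apply, LinearMap.add_apply,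
    Module.End.mul_apply, hy, map_zero, add_zero] at e
  rw [← e]
  exact orth_range B hM hx _

theorem restrict_gen_ker_nondegenerate [FiniteDimensional k V] (hB : B.Nondegenerate)
    (M : V ≃ₗ[k] V) (hM : ∀ x y : V, B (M x) (M y) = B x y) (Q : k[X])
    (hQ : Associated Q Q.reverse) :
    (B.restrict (⨆ n : ℕ, LinearMap.ker (aeval (M : V →ₗ[k] V) Q ^ n))).Nondegenerate := by
  let f : Module.End k V := aeval (M : V →ₗ[k] V) Q
  have key : ∀ (B' : LinearMap.BilinForm k V), (∀ x y, B' (M x) (M y) = B' x y) →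
      (∀ x, (∀ y, B' x y = 0) → x = 0) →
      ∀ x ∈ (⨆ n : ℕ, LinearMap.ker (f ^ n)), (∀ y ∈ (⨆ n : ℕ, LinearMap.ker (f ^ n)), B' x y = 0) →
        x = 0 := by
    intro B' hM' hsep x hx h
    obtain ⟨N, hN⟩ := Filter.eventually_atTop.1
      (f.eventually_isCompl_ker_pow_range_pow.and f.eventually_iSup_ker_pow_eq)
    obtain ⟨hcompl, heq⟩ := hN N le_rfl
    rw [heq] at hx
    refine hsep x fun y => ?_
    obtain ⟨a, ha, b, ⟨z, rfl⟩, rfl⟩ := Submodule.mem_sup.1
      (hcompl.sup_eq_top ▸ (Submodule.mem_top : y ∈ ⊤))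
    rw [map_add, h a ((le_iSup (fun n : ℕ => LinearMap.ker (f ^ n)) N) ha), zero_add]
    obtain ⟨c, hc⟩ : Q.reverse ^ N ∣ Q ^ N := pow_dvd_pow_of_dvd hQ.symm.dvd N
    have hrev : (Q ^ N).reverse = Q.reverse ^ N := by
      clear * -
      induction N with
      | zero => rw [pow_zero, pow_zero, ← C_1, reverse_C]
      | succ N ih => rw [pow_succ, reverse_mul_of_domain, ih, pow_succ]
    have hfx : aeval (M : Module.End k V) (Q ^ N) x = 0 := by rw [map_pow]; exact hx
    have : (f ^ N) z = aeval (M : Module.End k V) (Q ^ N).reverse (aeval (M : Module.End k V) c z) := by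
      rw [hrev, ← Module.End.mul_apply, ← map_mul, ← hc, map_pow]
    rw [this]
    exact orth_range B' hM' hfx _
  constructor
  · rintro ⟨x, hx⟩ h
    exact Subtype.ext (key B hM hB.1 x hx fun y hy => h ⟨y, hy⟩)
  · rintro ⟨y, hy⟩ h
    exact Subtype.ext (key B.flip (fun a b => hM b a) hB.2 y hy fun x hx => h ⟨x, hx⟩)

variable (q : k)

theorem scaled_step {M : Module.End k V} (hM : ∀ x y, B (M x) (M y) = q * B x y) (a : k) (x y : V) :
    B ((M - a • 1) x) (M y) = B x ((q • 1 - a • M) y) := by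
  simp [hM, map_sub, map_smul, LinearMap.sub_apply, LinearMap.smul_apply]

theorem scaled_pow {M : Module.End k V} (hM : ∀ x y, B (M x) (M y) = q * B x y) (a : k) :
    ∀ (n : ℕ) (x y : V), B (((M - a • 1) ^ n) x) ((M ^ n) y) = B x (((q • 1 - a • M) ^ n) y) := by
  intro n
  induction n with
  | zero => intros; rfl
  | succ n ih =>
    intro x y
    have hc : Commute (q • 1 - a • M) M := by
      refine Commute.sub_left ?_ ((Commute.refl M).smul_left a)
      exact (Commute.one_left M).smul_left q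
    have e : (q • 1 - a • M) ((M ^ n) y) = (M ^ n) ((q • 1 - a • M) y) :=
      congrArg (fun g : Module.End k V => g y) (hc.pow_right n).eq
    rw [pow_succ' (M - a • 1), pow_succ' M, Module.End.mul_apply, Module.End.mul_apply,
      scaled_step B q hM, e, ih, pow_succ (q • 1 - a • M), Module.End.mul_apply]

theorem scaled_pairing [FiniteDimensional k V] (hB : B.Nondegenerate) (hq : q ≠ 0) (M : V ≃ₗ[k] V)
    (hM : ∀ x y : V, B (M x) (M y) = q * B x y) :
    (∀ x ∈ Module.End.maxGenEigenspace (M : Module.End k V) 1,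
        (∀ y ∈ Module.End.maxGenEigenspace (M : Module.End k V) q, B x y = 0) → x = 0) ∧
      (∀ y ∈ Module.End.maxGenEigenspace (M : Module.End k V) q,
        (∀ x ∈ Module.End.maxGenEigenspace (M : Module.End k V) 1, B x y = 0) → y = 0) ∧
      (q ≠ 1 → ∀ x ∈ Module.End.maxGenEigenspace (M : Module.End k V) 1,
        ∀ x' ∈ Module.End.maxGenEigenspace (M : Module.End k V) 1, B x x' = 0) ∧
      (q ≠ 1 → ∀ y ∈ Module.End.maxGenEigenspace (M : Module.End k V) q,
        ∀ y' ∈ Module.End.maxGenEigenspace (M : Module.End k V) q, B y y' = 0) := by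
  obtain ⟨F, hF⟩ : ∃ F : Module.End k V, F = (M : Module.End k V) := ⟨_, rfl⟩
  rw [← hF]
  have hFM : ∀ x y, B (F x) (F y) = q * B x y := fun x y => by rw [hF]; exact hM x y
  -- annihilation on the two sides
  have right : ∀ (n : ℕ) x z, ((F - (1:k) • 1) ^ n) x = 0 → B x (((F - q • 1) ^ n) z) = 0 := by
    intro n x z hx
    have := scaled_pow B q hFM 1 n x z
    rw [hx, map_zero, LinearMap.zero_apply, one_smul] at this
    have e : (q • 1 - F) = -(F - q • (1 : Module.End k V)) := (neg_sub _ _).symm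
    rw [e, neg_pow, Module.End.mul_apply] at this
    rcases neg_one_pow_eq_or (Module.End k V) n with h1 | h1 <;>
      simpa [h1, eq_comm] using this
  have hsurj : ∀ n, Function.Surjective (F ^ n : Module.End k V) := fun n => by
    rw [Module.End.coe_pow]; exact Function.Surjective.iterate (by rw [hF]; exact M.surjective) n
  have left : ∀ (n : ℕ) y z, ((F - q • 1) ^ n) y = 0 → B (((F - (1:k) • 1) ^ n) z) y = 0 := by
    intro n y z hy
    obtain ⟨y', rfl⟩ := hsurj n y
    rw [scaled_pow B q hFM 1 n z y', one_smul]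
    have hc : Commute (F - q • 1) F := Commute.sub_left (Commute.refl F) ((Commute.one_left F).smul_left q)
    have h0 : (F ^ n) (((F - q • 1) ^ n) y') = 0 := by
      rw [← Module.End.mul_apply, ((hc.pow_pow n n).symm).eq, Module.End.mul_apply]; exact hy
    have hinj : Function.Injective (F ^ n : Module.End k V) := by
      rw [Module.End.coe_pow]; exact Function.Injective.iterate (by rw [hF]; exact M.injective) n
    have h1 : ((F - q • 1) ^ n) y' = 0 := hinj (by rw [h0, map_zero])
    have e : (q • 1 - F) = -(F - q • (1 : Module.End k V)) := (neg_sub _ _).symm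
    rw [e, neg_pow, Module.End.mul_apply, h1, map_zero, map_zero]
  have mem : ∀ μ x, x ∈ F.maxGenEigenspace μ ↔ ∃ n : ℕ, ((F - μ • 1) ^ n) x = 0 := fun μ x =>
    Module.End.mem_maxGenEigenspace F μ x
  have lift : ∀ (μ : k) {n N : ℕ}, n ≤ N → ∀ {x}, ((F - μ • (1 : Module.End k V)) ^ n) x = 0 →
      ((F - μ • (1 : Module.End k V)) ^ N) x = 0 := by
    intro μ n N hnN x hx
    rw [← Nat.sub_add_cancel hnN, pow_add, Module.End.mul_apply, hx, map_zero]
  have compl : ∀ μ : k, ∀ n : ℕ, ∃ N, n ≤ N ∧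
      IsCompl (LinearMap.ker ((F - μ • (1 : Module.End k V)) ^ N))
        (LinearMap.range ((F - μ • (1 : Module.End k V)) ^ N)) := by
    intro μ n
    obtain ⟨N, hN⟩ := Filter.eventually_atTop.1
      (F - μ • (1 : Module.End k V)).eventually_isCompl_ker_pow_range_pow
    exact ⟨max n N, le_max_left _ _, hN _ (le_max_right _ _)⟩
  have cop : ∀ μ ν : k, μ ≠ ν → ∀ (n : ℕ) x, ((F - μ • (1 : Module.End k V)) ^ n) x = 0 →
      ∀ m : ℕ, ∃ z, x = ((F - ν • 1) ^ m) z := by
    intro μ ν hne n x hx m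
    obtain ⟨a, b, hab⟩ := (Polynomial.isCoprime_X_sub_C_of_isUnit_sub
      (sub_ne_zero.2 hne).isUnit).pow (m := n) (n := m)
    refine ⟨aeval F b x, ?_⟩
    have e := congrArg (fun R : k[X] => aeval F R x) hab
    rw [mul_comm b] at e
    simp only [map_add, map_mul, map_one, Module.End.one_apply, LinearMap.add_apply,
      Module.End.mul_apply, map_pow, map_sub, aeval_X, aeval_C, Algebra.algebraMap_eq_smul_one, hx,
      map_zero, zero_add] at e
    exact e.symm
  refine ⟨fun x hx h => ?_, fun y hy h => ?_, fun hq1 x hx x' hx' => ?_, fun hq1 y hy y' hy' => ?_⟩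
  · obtain ⟨n, hn⟩ := (mem 1 x).1 hx
    obtain ⟨N, hnN, hc⟩ := compl q n
    refine hB.1 x fun v => ?_
    obtain ⟨a, ha, b, ⟨z, rfl⟩, rfl⟩ := Submodule.mem_sup.1
      (hc.sup_eq_top ▸ (Submodule.mem_top : v ∈ ⊤))
    rw [map_add, h a ((mem q a).2 ⟨N, ha⟩), right N x z (lift 1 hnN hn), add_zero]
  · obtain ⟨n, hn⟩ := (mem q y).1 hy
    obtain ⟨N, hnN, hc⟩ := compl 1 n
    refine hB.2 y fun v => ?_
    obtain ⟨a, ha, b, ⟨z, rfl⟩, rfl⟩ := Submodule.mem_sup.1
      (hc.sup_eq_top ▸ (Submodule.mem_top : v ∈ ⊤))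
    rw [map_add, LinearMap.add_apply, h a ((mem 1 a).2 ⟨N, ha⟩), left N y z (lift q hnN hn), add_zero]
  · obtain ⟨n, hn⟩ := (mem 1 x).1 hx
    obtain ⟨m, hm⟩ := (mem 1 x').1 hx'
    obtain ⟨z, rfl⟩ := cop 1 q (Ne.symm hq1) m x' hm n
    exact right n x z hn
  · obtain ⟨n, hn⟩ := (mem q y).1 hy
    obtain ⟨m, hm⟩ := (mem q y').1 hy'
    obtain ⟨z, rfl⟩ := cop q 1 hq1 n y hn m
    exact left m y' z hm

end Groth.L26.Misc
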