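import Mathlib.LinearAlgebra.BilinearForm.Orthogonal
import Mathlib.LinearAlgebra.FreeModule.PID
import Mathlib.LinearAlgebra.FreeModule.Finite.Basic
import Mathlib.LinearAlgebra.Dimension.RankNullity
import Mathlib.LinearAlgebra.Dimension.Torsion.Finite
import Mathlib.LinearAlgebra.Dimension.Localization
import Mathlib.LinearAlgebra.Dual.Basis
import Mathlib.LinearAlgebra.Dual.Lemmas
import Mathlib.Algebra.Module.Projective
import Mathlib.RingTheory.Noetherian.Basic

/-! Integral lattices with a positive definite form. -/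

namespace Groth.L26.Lattice

variable {L : Type*} [AddCommGroup L] [Module.Finite ℤ L] [Module.Free ℤ L]
  {B : LinearMap.BilinForm ℤ L}

/-- An injective map between lattices of equal rank has torsion cokernel. -/
theorem exists_smul_mem_range {M : Type*} [AddCommGroup M] [Module.Finite ℤ M] [Module.Free ℤ M]
    (f : M →ₗ[ℤ] Module.Dual ℤ M) (hf : Function.Injective f) (ψ : Module.Dual ℤ M) :
    ∃ k : ℤ, k ≠ 0 ∧ k • ψ ∈ LinearMap.range f := by
  have h1 := Submodule.finrank_quotient_add_finrank (LinearMap.range f)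
  rw [LinearMap.finrank_range_of_inj hf,
    (Module.Free.chooseBasis ℤ M).toDualEquiv.finrank_eq] at h1
  have h2 : Module.IsTorsion ℤ (Module.Dual ℤ M ⧸ LinearMap.range f) :=
    Module.finrank_eq_zero_iff_isTorsion.1 (by omega)
  obtain ⟨⟨k, hk⟩, hk2⟩ := @h2 (Submodule.Quotient.mk ψ)
  refine ⟨k, nonZeroDivisors.ne_zero hk, ?_⟩
  rw [← Submodule.Quotient.mk_eq_zero, Submodule.Quotient.mk_smul]
  exact hk2

theorem exists_extension {M : Type*} [AddCommGroup M] [Module.Finite ℤ M] (A : Submodule ℤ M)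
    (htf : ∀ (c : ℤ) (x : M), c ≠ 0 → c • x ∈ A → x ∈ A) (ψ : Module.Dual ℤ A) :
    ∃ φ : Module.Dual ℤ M, φ ∘ₗ A.subtype = ψ := by
  have : Module.IsTorsionFree ℤ (M ⧸ A) := Module.isTorsionFree_iff_smul_eq_zero.2 fun c y h => by
    obtain ⟨x, rfl⟩ := Submodule.Quotient.mk_surjective _ y
    rw [← Submodule.Quotient.mk_smul, Submodule.Quotient.mk_eq_zero] at h
    by_cases hc : c = 0
    · exact Or.inl hc
    · exact Or.inr ((Submodule.Quotient.mk_eq_zero _).2 (htf c x hc h))
  obtain ⟨s, hs⟩ := Module.projective_lifting_property A.mkQ LinearMap.id (Submodule.mkQ_surjective A)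
  have hmem : ∀ x, (LinearMap.id - s.comp A.mkQ : M →ₗ[ℤ] M) x ∈ A := fun x => by
    have h := LinearMap.congr_fun hs (Submodule.Quotient.mk x)
    simp only [LinearMap.comp_apply, Submodule.mkQ_apply, LinearMap.id_apply] at h
    rw [← Submodule.Quotient.mk_eq_zero]
    simp [h]
  refine ⟨ψ.comp ((LinearMap.id - s.comp A.mkQ : M →ₗ[ℤ] M).codRestrict A hmem), ?_⟩
  apply LinearMap.ext
  intro a
  simp only [LinearMap.comp_apply, Submodule.subtype_apply]
  congr 1
  apply Subtype.ext
  simp [(Submodule.Quotient.mk_eq_zero A).2 a.2]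

theorem orthogonal_orthogonal_mem (hsymm : B.IsSymm) (hpos : ∀ x, x ≠ 0 → 0 < B x x)
    (A : Submodule ℤ L) (htf : ∀ (c : ℤ) (x : L), c ≠ 0 → c • x ∈ A → x ∈ A) {x : L}
    (hx : ∀ b ∈ B.orthogonal A, B b x = 0) : x ∈ A := by
  let f : A →ₗ[ℤ] Module.Dual ℤ A := (B.compl₂ A.subtype).comp A.subtype
  have hf : Function.Injective f := by
    rw [← LinearMap.ker_eq_bot, LinearMap.ker_eq_bot']
    intro a ha
    by_contra hne
    exact (hpos (a : L) (fun e => hne (Subtype.ext e))).ne' (LinearMap.congr_fun ha a)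
  obtain ⟨k, hk, ⟨a, ha⟩⟩ := exists_smul_mem_range f hf ((B x).comp A.subtype)
  refine htf k x hk ?_
  have hz : k • x - (a : L) ∈ B.orthogonal A := by
    rw [LinearMap.BilinForm.mem_orthogonal_iff]
    intro a' ha'
    have := LinearMap.congr_fun ha ⟨a', ha'⟩
    simp only [f, LinearMap.comp_apply, LinearMap.compl₂_apply, Submodule.subtype_apply,
      LinearMap.smul_apply] at this
    show B a' (k • x - (a : L)) = 0
    rw [hsymm.eq, map_sub, map_smul, LinearMap.sub_apply, LinearMap.smul_apply, this, sub_self]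
  have h0 : k • x - (a : L) = 0 := by
    by_contra hne
    refine (hpos _ hne).ne' ?_
    have h1 : B (k • x - (a : L)) x = 0 := hx _ hz
    have h2 : B (a : L) (k • x - (a : L)) = 0 :=
      (LinearMap.BilinForm.mem_orthogonal_iff.1 hz) a a.2
    rw [hsymm.eq] at h2
    show B (k • x - (a : L)) (k • x - (a : L)) = 0
    rw [map_sub (B (k • x - (a : L))), map_smul, h1, h2, smul_zero, sub_zero]
  rw [sub_eq_zero.1 h0]
  exact a.2

end Groth.L26.Lattice
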