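import Mathlib.LinearAlgebra.QuadraticForm.Basic
import Mathlib.LinearAlgebra.BilinearForm.Properties
import Mathlib.LinearAlgebra.FiniteDimensional.Basic
import Mathlib.LinearAlgebra.Trace
import Mathlib.Algebra.Ring.SumsOfSquares
import Mathlib.NumberTheory.SumFourSquares
import Mathlib.FieldTheory.Minpoly.Field
import Mathlib.FieldTheory.Perfect
import Mathlib.RingTheory.Nilpotent.Defs
import Mathlib.LinearAlgebra.Matrix.ToLinearEquiv
import Mathlib.Analysis.Complex.Basic
import Mathlib.Analysis.Complex.Polynomial.Basic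
import Mathlib.Topology.Algebra.Order.Archimedean
import Mathlib.Topology.Algebra.Polynomial
import Mathlib.Topology.NhdsWithin
import Mathlib.RingTheory.Algebraic.Integral
import Mathlib.Tactic.Ring
import Mathlib.Tactic.LinearCombination
import Mathlib.Tactic.Positivity

/-! Commutative finite `ℚ`-algebras with a functional positive on squares. -/

namespace Groth.L26.PosForm

open Finset Polynomial
open scoped Matrix

universe u

variable {A : Type u} [CommRing A] [Algebra ℚ A] (τ : A →ₗ[ℚ] ℚ)

/-- The form `(a, b) ↦ τ (c * a * b)`. -/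
noncomputable def form (c : A) : LinearMap.BilinForm ℚ A :=
  LinearMap.mk₂ ℚ (fun a b => τ (c * a * b))
    (fun a a' b => by rw [mul_add, add_mul, map_add])
    (fun r a b => by rw [mul_smul_comm, smul_mul_assoc, map_smul, smul_eq_mul])
    (fun a b b' => by rw [mul_add, map_add])
    (fun r a b => by rw [mul_smul_comm, map_smul, smul_eq_mul])

@[simp] theorem form_apply (c a b : A) : form τ c a b = τ (c * a * b) := rfl

variable {τ} (hpos : ∀ a : A, a ≠ 0 → 0 < τ (a * a))
include hpos

theorem nonneg_sq (a : A) : 0 ≤ τ (a * a) := by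
  by_cases h : a = 0
  · simp [h]
  · exact (hpos a h).le

theorem form_one_nondegenerate : (form τ 1).Nondegenerate := by
  constructor
  · intro a ha
    by_contra hne
    have h := ha a
    rw [form_apply, one_mul] at h
    exact (hpos a hne).ne' h
  · intro a ha
    by_contra hne
    have h := ha a
    rw [form_apply, one_mul] at h
    exact (hpos a hne).ne' h

theorem ext_form {a b : A} (h : ∀ y, τ (a * y) = τ (b * y)) : a = b := by
  refine sub_eq_zero.1 ((form_one_nondegenerate hpos).1 (a - b) fun y => ?_)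
  simp [sub_mul, h y]

omit hpos in
theorem isSumSq_algebraMap {q : ℚ} (hq : 0 ≤ q) : IsSumSq (algebraMap ℚ A q) := by
  obtain ⟨a, b, c, d, h⟩ := Nat.sum_four_squares (q.num.toNat * q.den)
  have e : q = ((a : ℚ) / q.den) * (a / q.den) + (b / q.den) * (b / q.den)
      + (c / q.den) * (c / q.den) + (d / q.den) * (d / q.den) := by
    have hd : (q.den : ℚ) ≠ 0 := Nat.cast_ne_zero.2 q.den_nz
    have h' : ((a : ℚ) ^ 2 + b ^ 2 + c ^ 2 + d ^ 2) = (q.num.toNat : ℚ) * q.den := by exact_mod_cast h
    have hnum : (q.num.toNat : ℚ) = q * q.den := by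
      rw [Rat.mul_den_eq_num]
      exact_mod_cast Int.toNat_of_nonneg (Rat.num_nonneg.2 hq)
    field_simp
    rw [h', hnum]; ring
  rw [e]
  simp only [map_add, map_mul]
  exact (((IsSumSq.mul_self _).add (IsSumSq.mul_self _)).add (IsSumSq.mul_self _)).add
    (IsSumSq.mul_self _)

omit hpos in
theorem isSumSq_mul {s t : A} (hs : IsSumSq s) (ht : IsSumSq t) : IsSumSq (s * t) := by
  induction hs using IsSumSq.rec' with
  | zero => rw [zero_mul]; exact IsSumSq.zero
  | sq_add ha _ ih =>
    obtain ⟨a, rfl⟩ := ha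
    rw [add_mul]
    refine IsSumSq.add ?_ ih
    clear ih
    induction ht using IsSumSq.rec' with
    | zero => rw [mul_zero]; exact IsSumSq.zero
    | sq_add hb _ ih =>
      obtain ⟨b, rfl⟩ := hb
      rw [mul_add, mul_mul_mul_comm]
      exact (IsSumSq.mul_self _).add ih

theorem isNilpotent_zero {a : A} (ha : IsNilpotent a) : a = 0 := by
  by_contra hne
  obtain ⟨k, hk⟩ := ha
  induction k using Nat.strong_induction_on generalizing a with
  | _ k ih =>
    rcases Nat.lt_or_ge k 2 with h2 | h2
    · interval_cases k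
      · simp only [pow_zero] at hk
        exact hne (by rw [← one_mul a, hk, zero_mul])
      · exact hne (by simpa using hk)
    · refine ih ((k + 1) / 2) (by omega) hne ?_
      by_contra hb
      have h1 := hpos _ hb
      rw [← pow_add, show (k + 1) / 2 + (k + 1) / 2 = k + ((k + 1) / 2 + (k + 1) / 2 - k) by omega,
        pow_add, hk, zero_mul, map_zero] at h1
      exact lt_irrefl _ h1

variable [Module.Finite ℚ A]

theorem trace_sum {ι : Type*} [Fintype ι] [DecidableEq ι] (b : Module.Basis ι ℚ A) (w : A) :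
    τ (w * ∑ i, b i * (form τ 1).dualBasis (form_one_nondegenerate hpos) b i)
      = LinearMap.trace ℚ A (LinearMap.mulLeft ℚ w) := by
  rw [LinearMap.trace_eq_matrix_trace ℚ
    ((form τ 1).dualBasis (form_one_nondegenerate hpos) b), Matrix.trace, mul_sum, map_sum]
  refine sum_congr rfl fun i _ => ?_
  rw [Matrix.diag_apply, LinearMap.toMatrix_apply, LinearMap.mulLeft_apply,
    LinearMap.BilinForm.dualBasis_repr_apply, form_apply, one_mul]
  congr 1
  ring

theorem canonical : ∃ u : A, IsSumSq u ∧ IsUnit u ∧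
    ∀ w, τ (w * u) = LinearMap.trace ℚ A (LinearMap.mulLeft ℚ w) := by
  classical
  have : Invertible (2 : ℚ) := invertibleOfNonzero two_ne_zero
  obtain ⟨e, he⟩ := LinearMap.BilinForm.exists_orthogonal_basis (B := form τ 1) ⟨fun a b => congrArg τ (mul_right_comm 1 a b)⟩
  let n := fun i => τ (e i * e i)
  have hn : ∀ i, 0 < n i := fun i => hpos _ (e.ne_zero i)
  let u : A := ∑ i, algebraMap ℚ A (n i)⁻¹ * (e i * e i)
  have hdual : ∀ i, (form τ 1).dualBasis (form_one_nondegenerate hpos) e i
      = algebraMap ℚ A (n i)⁻¹ * e i := by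
    intro i
    refine ext_form hpos fun y => ?_
    have hy := e.sum_repr y
    rw [← hy]
    simp only [mul_sum, map_sum, mul_smul_comm, map_smul]
    refine sum_congr rfl fun j _ => congrArg _ ?_
    have h1 := LinearMap.BilinForm.apply_dualBasis_left (form_one_nondegenerate hpos) e i j
    rw [form_apply, one_mul] at h1
    rw [h1, Algebra.algebraMap_eq_smul_one, smul_mul_assoc, one_mul, smul_mul_assoc, map_smul,
      smul_eq_mul]
    split_ifs with hji
    · subst hji; exact (inv_mul_cancel₀ (hn j).ne').symm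
    · have h2 := he (show i ≠ j from Ne.symm hji)
      simp only [Function.onFun, LinearMap.IsOrtho, form_apply, one_mul] at h2
      rw [h2, mul_zero]
  refine ⟨u, IsSumSq.sum (fun i _ => isSumSq_mul (isSumSq_algebraMap (inv_nonneg.2 (hn i).le))
    (IsSumSq.mul_self _)), ?_, fun w => ?_⟩
  · -- multiplication by `u` is injective
    have hu : ∀ y, u * y = 0 → y = 0 := by
      intro y hy
      have h0 : ∑ i, (n i)⁻¹ * τ ((e i * y) * (e i * y)) = 0 := by
        have : τ (u * y * y) = ∑ i, (n i)⁻¹ * τ ((e i * y) * (e i * y)) := by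
          simp only [u, sum_mul, map_sum]
          refine sum_congr rfl fun i _ => ?_
          rw [Algebra.algebraMap_eq_smul_one, smul_mul_assoc, one_mul, smul_mul_assoc, smul_mul_assoc,
            map_smul, smul_eq_mul]
          congr 2; ring
        rw [← this, hy, zero_mul, map_zero]
      have hz : ∀ i, e i * y = 0 := fun i => by
        have h1 := (sum_eq_zero_iff_of_nonneg fun j _ =>
          mul_nonneg (inv_nonneg.2 (hn j).le) (nonneg_sq hpos _)).1 h0 i (mem_univ i)
        by_contra hne
        exact (mul_pos (inv_pos.2 (hn i)) (hpos _ hne)).ne' h1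
      rw [← one_mul y, ← e.sum_repr 1, sum_mul]
      exact sum_eq_zero fun i _ => by rw [smul_mul_assoc, hz i, smul_zero]
    have hinj : Function.Injective (LinearMap.mulLeft ℚ u) := by
      rw [← LinearMap.ker_eq_bot, LinearMap.ker_eq_bot']; exact hu
    obtain ⟨v, hv⟩ := LinearMap.surjective_of_injective hinj 1
    exact IsUnit.of_mul_eq_one v hv
  · rw [← trace_sum hpos e w]
    congr 2
    exact sum_congr rfl fun i _ => by rw [hdual i]; ring

/-- If `(a, b) ↦ τ (x * a * b)` is semidefinite then `x` is a sum of squares. -/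
theorem isSumSq_of_form_nonneg {x : A} (hx : ∀ a, 0 ≤ τ (x * a * a)) : IsSumSq x := by
  classical
  have : Invertible (2 : ℚ) := invertibleOfNonzero two_ne_zero
  obtain ⟨f, hf⟩ := LinearMap.BilinForm.exists_orthogonal_basis (B := form τ x) ⟨fun a b => congrArg τ (mul_right_comm x a b)⟩
  let g := fun i => (form τ 1).dualBasis (form_one_nondegenerate hpos) f i
  let q := fun i => τ (x * f i * f i)
  obtain ⟨u, hu, ⟨U, rfl⟩, hut⟩ := canonical hpos
  have hg : ∀ i, x * f i = algebraMap ℚ A (q i) * g i := by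
    intro i
    refine ext_form hpos fun y => ?_
    rw [← f.sum_repr y]
    simp only [mul_sum, map_sum, mul_smul_comm, map_smul]
    refine sum_congr rfl fun j _ => congrArg _ ?_
    have h1 := LinearMap.BilinForm.apply_dualBasis_left (form_one_nondegenerate hpos) f i j
    rw [form_apply, one_mul] at h1
    rw [Algebra.algebraMap_eq_smul_one (R := ℚ) (A := A) (q i), smul_mul_assoc, one_mul,
      smul_mul_assoc, map_smul, smul_eq_mul, show τ (g i * f j) = _ from h1]
    split_ifs with hji
    · subst hji; rw [mul_one]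
    · have h2 := hf (show i ≠ j from Ne.symm hji)
      simp only [Function.onFun, LinearMap.IsOrtho, form_apply] at h2
      rw [h2, mul_zero]
  have hxu : x * U = ∑ i, algebraMap ℚ A (q i) * (g i * g i) := by
    have hU : (U : A) = ∑ i, f i * g i := ext_form hpos fun y => by
      rw [mul_comm, hut, ← trace_sum hpos f y, mul_comm]
    rw [hU, mul_sum]
    exact sum_congr rfl fun i _ => by rw [← mul_assoc, hg, mul_assoc]
  have e : x = (x * U) * U * (((U⁻¹ : Aˣ) : A) * ((U⁻¹ : Aˣ) : A)) := by
    calc x = x * ((U : A) * ((U⁻¹ : Aˣ) : A)) * ((U : A) * ((U⁻¹ : Aˣ) : A)) := by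
          rw [Units.mul_inv, mul_one, mul_one]
      _ = _ := by ring
  rw [e, hxu]
  exact isSumSq_mul (isSumSq_mul
    (IsSumSq.sum fun i _ => isSumSq_mul (isSumSq_algebraMap (hx _)) (IsSumSq.mul_self _)) hu)
    (IsSumSq.mul_self _)

theorem minpoly_separable (x : A) : (minpoly ℚ x).Separable := by
  have h0 := minpoly.ne_zero (Algebra.IsIntegral.isIntegral (R := ℚ) x)
  rw [PerfectField.separable_iff_squarefree]
  intro f hf
  obtain ⟨g, hg⟩ := hf
  have hnil : IsNilpotent (aeval x (f * g)) := ⟨2, by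
    rw [← map_pow, show (f * g) ^ 2 = (f * f * g) * g by ring, ← hg, map_mul, minpoly.aeval, zero_mul]⟩
  obtain ⟨c, hc⟩ := minpoly.dvd ℚ x (isNilpotent_zero hpos hnil)
  have hfg : f * g ≠ 0 := fun h => h0 (by rw [hg, mul_assoc, h, mul_zero])
  have : f * g * (f * c - 1) = 0 := by
    rw [hg] at hc
    linear_combination -hc
  exact IsUnit.of_mul_eq_one c (sub_eq_zero.1 ((mul_eq_zero.1 this).resolve_left hfg))

theorem roots_real (x : A) (z : ℂ) (hz : aeval z (minpoly ℚ x) = 0) : z.im = 0 := by
  classical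
  by_contra him
  have hint := Algebra.IsIntegral.isIntegral (R := ℚ) x
  set μ := minpoly ℚ x with hμ
  set d := μ.natDegree with hd
  let G : Matrix (Fin d) (Fin d) ℚ := Matrix.of fun i j => τ (x ^ (i.val + j.val))
  -- positive definite over `ℚ`
  have hGpd : ∀ v : Fin d → ℚ, v ≠ 0 → 0 < v ⬝ᵥ G *ᵥ v := by
    intro v hv
    have e : v ⬝ᵥ G *ᵥ v = τ ((∑ i, v i • x ^ i.val) * (∑ i, v i • x ^ i.val)) := by
      simp only [dotProduct, Matrix.mulVec, G, Matrix.of_apply, sum_mul, map_sum, mul_sum,
        smul_mul_smul_comm, ← pow_add, map_smul, smul_eq_mul]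
      exact sum_congr rfl fun i _ => sum_congr rfl fun j _ => by ring
    rw [e]
    exact hpos _ fun h0 => hv (funext (Fintype.linearIndependent_iff.1 (linearIndependent_pow x) v h0))
  have hGdet : G.det ≠ 0 := by
    intro h
    obtain ⟨v, hv0, hv⟩ := Matrix.exists_mulVec_eq_zero_iff.2 h
    have := hGpd v hv0
    rw [hv, dotProduct_zero] at this
    exact lt_irrefl _ this
  let GR : Matrix (Fin d) (Fin d) ℝ := (Rat.castHom ℝ).mapMatrix G
  have hGRdet : GR.det ≠ 0 := by
    have h1 := RingHom.map_det (Rat.castHom ℝ) G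
    simp only [GR, ← h1]
    exact (map_ne_zero_iff _ (Rat.castHom ℝ).injective).2 hGdet
  have hGR : ∀ v : Fin d → ℝ, 0 ≤ v ⬝ᵥ GR *ᵥ v := by
    intro v
    have hcl : IsClosed {v : Fin d → ℝ | 0 ≤ v ⬝ᵥ GR *ᵥ v} := by
      refine isClosed_le continuous_const ?_
      simp only [dotProduct, Matrix.mulVec]
      fun_prop
    have hdense : DenseRange (fun (w : Fin d → ℚ) (i : Fin d) => (w i : ℝ)) :=
      DenseRange.piMap fun _ => Rat.denseRange_cast
    refine hdense.induction_on v hcl fun w => ?_
    have e : (fun i => (w i : ℝ)) ⬝ᵥ GR *ᵥ (fun i => (w i : ℝ)) = ((w ⬝ᵥ G *ᵥ w : ℚ) : ℝ) := by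
      simp [dotProduct, Matrix.mulVec, GR]
    show 0 ≤ _
    rw [e, Rat.cast_nonneg]
    by_cases hw : w = 0
    · simp [hw]
    · exact (hGpd w hw).le
  -- the functional on real polynomials
  let L : ℝ[X] →ₗ[ℝ] ℝ := Polynomial.lsum fun i => (τ (x ^ i) : ℝ) • LinearMap.id
  have hL : ∀ i c, L (monomial i c) = c * (τ (x ^ i) : ℝ) := fun i c => by
    simp [L, Polynomial.lsum_apply, Polynomial.sum_monomial_index, mul_comm]
  let μR := μ.map (algebraMap ℚ ℝ)
  have hLμ : ∀ P, L (μR * P) = 0 := by
    intro P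
    induction P using Polynomial.induction_on' with
    | add p q hp hq => rw [mul_add, map_add, hp, hq, add_zero]
    | monomial k c =>
      have e : μR * monomial k c
          = ∑ i ∈ range (d + 1), monomial (i + k) (c * (μ.coeff i : ℝ)) := by
        conv_lhs => rw [show μR = ∑ i ∈ range (d + 1), monomial i (μR.coeff i) from
          μR.as_sum_range' (d + 1) (Nat.lt_succ_of_le (natDegree_map_le.trans hd.ge))]
        rw [sum_mul]
        refine sum_congr rfl fun i _ => ?_
        rw [monomial_mul_monomial]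
        simp [μR, mul_comm]
      have h0 : τ (aeval x μ * x ^ k) = 0 := by rw [minpoly.aeval, zero_mul, map_zero]
      rw [aeval_eq_sum_range] at h0
      simp only [sum_mul, map_sum, smul_mul_assoc, map_smul, ← pow_add, smul_eq_mul] at h0
      rw [e, map_sum]
      simp only [hL]
      have h1 : ((∑ i ∈ range (d + 1), μ.coeff i * τ (x ^ (i + k)) : ℚ) : ℝ) = 0 := by
        rw [h0, Rat.cast_zero]
      push_cast at h1
      rw [show (0:ℝ) = c * ∑ i ∈ range (d + 1), (μ.coeff i : ℝ) * (τ (x ^ (i + k)) : ℝ) by rw [h1, mul_zero],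
        mul_sum]
      exact sum_congr rfl fun i _ => by ring
  let vec : ℝ[X] → Fin d → ℝ := fun P i => P.coeff i
  have hprod : ∀ P Q : ℝ[X], P.natDegree < d → Q.natDegree < d →
      L (P * Q) = vec P ⬝ᵥ GR *ᵥ vec Q := by
    intro P Q hP hQ
    conv_lhs => rw [P.as_sum_range' d hP, Q.as_sum_range' d hQ]
    simp only [sum_mul, mul_sum, map_sum, monomial_mul_monomial, hL]
    rw [sum_comm, sum_range]
    simp only [dotProduct, Matrix.mulVec, mul_sum, GR, RingHom.mapMatrix_apply, Matrix.map_apply,
      G, Matrix.of_apply, vec]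
    refine sum_congr rfl fun i _ => ?_
    rw [sum_range]
    exact sum_congr rfl fun j _ => by simp; ring
  -- the quadratic factor of a non-real root
  have hzR : aeval z μR = 0 := by simpa [μR, aeval_map_algebraMap] using hz
  let h : ℝ[X] := (X - C z.re) ^ 2 + C (z.im ^ 2)
  obtain ⟨g, hg⟩ : h ∣ μR := by
    have hq := Polynomial.quadratic_dvd_of_aeval_eq_zero_im_ne_zero μR hzR him
    have : h = X ^ 2 - C (2 * z.re) * X + C (‖z‖ ^ 2) := by
      rw [Complex.sq_norm, Complex.normSq_apply]
      simp only [h, map_add, map_mul, map_ofNat, pow_two]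
      ring
    rwa [this]
  have hμR0 : μR ≠ 0 := map_ne_zero (minpoly.ne_zero hint)
  have hg0 : g ≠ 0 := fun e => hμR0 (by rw [hg, e, mul_zero])
  have hh2 : h.natDegree = 2 := by
    simp only [h]
    rw [natDegree_add_C, natDegree_pow, natDegree_X_sub_C]
  have hdeg : d = 2 + g.natDegree := by
    have h1 : μR.natDegree = d := natDegree_map _
    rw [hg, natDegree_mul (fun e => by rw [e] at hh2; simp at hh2) hg0, hh2] at h1
    omega
  let P1 := g * (X - C z.re)
  let P2 := g * C z.im
  have d1 : P1.natDegree < d := lt_of_le_of_lt natDegree_mul_le (by rw [natDegree_X_sub_C]; omega)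
  have d2 : P2.natDegree < d := lt_of_le_of_lt natDegree_mul_le (by rw [natDegree_C]; omega)
  have hsum : L (P1 * P1) + L (P2 * P2) = 0 := by
    rw [← map_add, show P1 * P1 + P2 * P2 = μR * g by
      rw [hg]; simp only [P1, P2, h, map_pow]; ring]
    exact hLμ g
  have q1 := hGR (vec P1); rw [← hprod P1 P1 d1 d1] at q1
  have q2 := hGR (vec P2); rw [← hprod P2 P2 d2 d2] at q2
  have hz1 : vec P1 ⬝ᵥ GR *ᵥ vec P1 = 0 := by rw [← hprod P1 P1 d1 d1]; linarith
  have hsymm : ∀ v w : Fin d → ℝ, v ⬝ᵥ GR *ᵥ w = w ⬝ᵥ GR *ᵥ v := by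
    intro v w
    simp only [dotProduct, Matrix.mulVec, mul_sum]
    rw [sum_comm]
    refine sum_congr rfl fun i _ => sum_congr rfl fun j _ => ?_
    simp only [GR, RingHom.mapMatrix_apply, Matrix.map_apply, G, Matrix.of_apply, Nat.add_comm j.val]
    ring
  have hker : GR *ᵥ vec P1 = 0 := by
    have key : ∀ v, v ⬝ᵥ GR *ᵥ vec P1 = 0 := by
      intro v
      by_contra hne
      set b := v ⬝ᵥ GR *ᵥ vec P1 with hb
      set c := v ⬝ᵥ GR *ᵥ v with hc
      have hc0 : 0 ≤ c := hGR v
      have h1 := hGR (vec P1 + (-b / (c + 1)) • v)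
      rw [Matrix.mulVec_add, Matrix.mulVec_smul, add_dotProduct, dotProduct_add, dotProduct_add,
        hz1, smul_dotProduct, smul_dotProduct, dotProduct_smul, dotProduct_smul,
        hsymm (vec P1) v, ← hb, ← hc] at h1
      simp only [smul_eq_mul] at h1
      have e : 0 + -b / (c + 1) * b + (-b / (c + 1) * b + -b / (c + 1) * (-b / (c + 1) * c))
          = -(b ^ 2 * (c + 2)) / (c + 1) ^ 2 := by
        have hne' : c + 1 ≠ 0 := by positivity
        field_simp
        ring
      rw [e] at h1
      have : 0 < b ^ 2 * (c + 2) / (c + 1) ^ 2 := by positivity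
      rw [neg_div] at h1
      linarith
    funext i
    simpa using key (Pi.single i 1)
  have hv0 : vec P1 = 0 := by
    by_contra hne
    exact hGRdet (Matrix.exists_mulVec_eq_zero_iff.1 ⟨_, hne, hker⟩)
  have hP1 : P1 = 0 := by
    ext i
    rcases Nat.lt_or_ge i d with hi | hi
    · exact congrFun hv0 ⟨i, hi⟩
    · exact coeff_eq_zero_of_natDegree_lt (lt_of_lt_of_le d1 hi)
  exact mul_ne_zero hg0 (X_sub_C_ne_zero _) hP1

end Groth.L26.PosForm
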