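import Groth.Agent.L26.Misc.PosForm
import Mathlib.Algebra.Star.Module
import Mathlib.Algebra.Star.BigOperators
import Mathlib.RingTheory.Artinian.Ring
import Mathlib.RingTheory.Jacobson.Semiprimary
import Mathlib.RingTheory.Adjoin.Basic
import Mathlib.RingTheory.Adjoin.Polynomial.Basic
import Mathlib.RingTheory.Noetherian.Basic

/-! Finite `ℚ`-algebras with a positive involution. -/

namespace Groth.L26.PosInv

open Finset Polynomial

universe u

variable {R : Type u} [Ring R] [Algebra ℚ R] [StarRing R] [StarModule ℚ R]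

theorem adjoin_symmetric {x : R} (hx : star x = x) :
    ∀ a ∈ Algebra.adjoin ℚ ({x} : Set R), star a = a ∧ Commute a x := by
  intro a ha
  rw [Algebra.adjoin_singleton_eq_range_aeval] at ha
  obtain ⟨P, rfl⟩ := ha
  change star (aeval x P) = aeval x P ∧ Commute (aeval x P) x
  induction P using Polynomial.induction_on' with
  | add p q hp hq =>
    rw [map_add, star_add, hp.1, hq.1]
    exact ⟨rfl, hp.2.add_left hq.2⟩
  | monomial k c =>
    rw [aeval_monomial, ← Algebra.smul_def, star_smul, star_pow, hx, star_trivial c]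
    exact ⟨rfl, ((Commute.refl x).pow_left k).smul_left c⟩

theorem adjoin_comm {x a b : R} (ha : a ∈ Algebra.adjoin ℚ ({x} : Set R))
    (hb : b ∈ Algebra.adjoin ℚ ({x} : Set R)) : a * b = b * a := by
  rw [Algebra.adjoin_singleton_eq_range_aeval] at ha hb
  obtain ⟨P, rfl⟩ := ha; obtain ⟨Q, rfl⟩ := hb
  change aeval x P * aeval x Q = aeval x Q * aeval x P
  rw [← map_mul, ← map_mul, mul_comm]

variable {σ : R →ₗ[ℚ] ℚ} (hpos : ∀ x : R, x ≠ 0 → 0 < σ (x * star x))
include hpos

theorem nonneg (a : R) : 0 ≤ σ (a * star a) := by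
  by_cases h : a = 0
  · simp [h]
  · exact (hpos a h).le

omit [Algebra ℚ R] [StarModule ℚ R] hpos in
theorem eq_zero_of_sym_pow {y : R} (hy : star y = y) (h0 : ∀ z : R, z * star z = 0 → z = 0) :
    ∀ k, y ^ k = 0 → y = 0 := by
  intro k
  induction k using Nat.strong_induction_on with
  | _ k ih =>
    intro hk
    rcases Nat.lt_or_ge k 2 with h2 | h2
    · interval_cases k
      · rw [pow_zero] at hk
        rw [← one_mul y, hk, zero_mul]
      · simpa using hk
    · refine ih ((k + 1) / 2) (by omega) (h0 _ ?_)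
      rw [star_pow, hy, ← pow_add,
        show (k + 1) / 2 + (k + 1) / 2 = k + ((k + 1) / 2 + (k + 1) / 2 - k) by omega, pow_add, hk,
        zero_mul]

theorem eq_zero_of_mul_star {z : R} (h : z * star z = 0) : z = 0 := by
  by_contra hne
  exact (hpos z hne).ne' (by rw [h, map_zero])

theorem isSemisimple [Module.Finite ℚ R] : IsSemisimpleRing R := by
  have : IsArtinianRing R := IsArtinianRing.of_finite ℚ R
  rw [IsArtinianRing.isSemisimpleRing_iff_jacobson, eq_bot_iff]
  intro a ha
  obtain ⟨k, hk⟩ := IsSemiprimaryRing.isNilpotent (R := R)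
  have hmem : a * star a ∈ Ring.jacobson R := Ideal.mul_mem_right _ _ ha
  have h0 : (a * star a) ^ k = 0 := by
    have := Ideal.pow_mem_pow hmem k
    rwa [hk] at this
  have := eq_zero_of_sym_pow (by rw [star_mul, star_star]) (fun z => eq_zero_of_mul_star hpos) k h0
  exact (Submodule.mem_bot R).2 (eq_zero_of_mul_star hpos this)

/-- The restricted functional on `ℚ[x]`. -/
theorem pos_adjoin {x : R} (hx : star x = x) (a : Algebra.adjoin ℚ ({x} : Set R)) (ha : a ≠ 0) :
    0 < σ.comp (Algebra.adjoin ℚ ({x} : Set R)).val.toLinearMap (a * a) := by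
  have h := hpos (a : R) (fun e => ha (Subtype.ext e))
  rw [(adjoin_symmetric hx _ a.2).1] at h
  exact h

theorem sym_minpoly [Module.Finite ℚ R] {x : R} (hx : star x = x) :
    (minpoly ℚ x).Separable ∧ ∀ z : ℂ, aeval z (minpoly ℚ x) = 0 → z.im = 0 := by
  let S := Algebra.adjoin ℚ ({x} : Set R)
  letI : CommRing S :=
    { (inferInstance : Ring S) with mul_comm := fun a b => Subtype.ext (adjoin_comm a.2 b.2) }
  have hmp : minpoly ℚ (⟨x, Algebra.self_mem_adjoin_singleton ℚ x⟩ : S) = minpoly ℚ x :=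
    (minpoly.algHom_eq S.val Subtype.val_injective _).symm
  rw [← hmp]
  exact ⟨PosForm.minpoly_separable (τ := σ.comp S.val.toLinearMap) (pos_adjoin hpos hx) _,
    PosForm.roots_real (τ := σ.comp S.val.toLinearMap) (pos_adjoin hpos hx) _⟩

theorem sum_squares [Module.Finite ℚ R] {x : R} (hx : star x = x)
    (h : ∀ y ∈ Algebra.adjoin ℚ ({x} : Set R), 0 ≤ σ (y * x * y)) :
    ∃ (n : ℕ) (y : Fin n → R), (∀ i, y i ∈ Algebra.adjoin ℚ ({x} : Set R)) ∧ x = ∑ i, y i ^ 2 := by
  let S := Algebra.adjoin ℚ ({x} : Set R)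
  letI : CommRing S :=
    { (inferInstance : Ring S) with mul_comm := fun a b => Subtype.ext (adjoin_comm a.2 b.2) }
  have hss : IsSumSq (⟨x, Algebra.self_mem_adjoin_singleton ℚ x⟩ : S) := by
    refine PosForm.isSumSq_of_form_nonneg (τ := σ.comp S.val.toLinearMap) (pos_adjoin hpos hx)
      fun a => ?_
    show 0 ≤ σ (x * (a : R) * (a : R))
    rw [← (adjoin_symmetric hx _ a.2).2.eq]
    exact h _ a.2
  have : ∀ s : S, IsSumSq s → ∃ (n : ℕ) (y : Fin n → R),
      (∀ i, y i ∈ S) ∧ (s : R) = ∑ i, y i ^ 2 := by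
    intro s hs
    induction hs using IsSumSq.rec' with
    | zero => exact ⟨0, fun i => i.elim0, fun i => i.elim0, by simp⟩
    | sq_add ha _ ih =>
      obtain ⟨a, rfl⟩ := ha
      obtain ⟨n, y, hy, hs'⟩ := ih
      refine ⟨n + 1, Fin.cons (a : R) y, fun i => ?_, ?_⟩
      · cases i using Fin.cases with
        | zero => exact a.2
        | succ i => simpa using hy i
      · rw [Fin.sum_univ_succ]
        simp only [Fin.cons_zero, Fin.cons_succ, pow_two] at hs' ⊢
        rw [← hs']; rfl
  exact this _ hss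

theorem nonneg_of_sum_squares {x : R} (hx : star x = x) {n : ℕ} {y : Fin n → R}
    (hy : ∀ i, y i ∈ Algebra.adjoin ℚ ({x} : Set R)) (e : x = ∑ i, y i ^ 2) (β : R) :
    0 ≤ σ (star β * x * β) ∧ (σ (star β * x * β) = 0 → star β * x = 0) := by
  have he : σ (star β * x * β) = ∑ i, σ ((star β * y i) * star (star β * y i)) := by
    conv_lhs => rw [e]
    rw [mul_sum, sum_mul, map_sum]
    refine sum_congr rfl fun i _ => ?_
    rw [star_mul, star_star, (adjoin_symmetric hx _ (hy i)).1, pow_two]
    simp only [mul_assoc]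
  refine ⟨he ▸ sum_nonneg fun i _ => nonneg hpos _, fun h0 => ?_⟩
  rw [he, sum_eq_zero_iff_of_nonneg fun i _ => nonneg hpos _] at h0
  rw [e, mul_sum]
  refine sum_eq_zero fun i hi => ?_
  have : star β * y i = 0 := by
    by_contra hne
    exact (hpos _ hne).ne' (h0 i hi)
  rw [pow_two, ← mul_assoc, this, zero_mul]

theorem star_conj [Module.Finite ℚ R] (α : R) (q : ℚ) (hα : α * star α = algebraMap ℚ R q) :
    ∃ hmem : star α ∈ Algebra.adjoin ℚ ({α} : Set R),
      ∀ ρ : Algebra.adjoin ℚ ({α} : Set R) →ₐ[ℚ] ℂ,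
        ρ ⟨star α, hmem⟩ = starRingEnd ℂ (ρ ⟨α, Algebra.self_mem_adjoin_singleton ℚ α⟩) ∧
          ‖ρ ⟨α, Algebra.self_mem_adjoin_singleton ℚ α⟩‖ ^ 2 = (q : ℝ) := by
  let S := Algebra.adjoin ℚ ({α} : Set R)
  letI : CommRing S :=
    { (inferInstance : Ring S) with mul_comm := fun a b => Subtype.ext (adjoin_comm a.2 b.2) }
  have hmem : star α ∈ S := by
    by_cases hq : q = 0
    · have : α = 0 := eq_zero_of_mul_star hpos (by rw [hα, hq, map_zero])
      rw [this, star_zero]; exact S.zero_mem
    · let a : S := ⟨α, Algebra.self_mem_adjoin_singleton ℚ α⟩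
      have hne : algebraMap ℚ R q * algebraMap ℚ R q⁻¹ = 1 := by
        rw [← map_mul, mul_inv_cancel₀ hq, map_one]
      have hne' : algebraMap ℚ R q⁻¹ * algebraMap ℚ R q = 1 := by
        rw [← map_mul, inv_mul_cancel₀ hq, map_one]
      have hright : α * (star α * algebraMap ℚ R q⁻¹) = 1 := by rw [← mul_assoc, hα, hne]
      have hinj : Function.Injective (LinearMap.mulLeft ℚ a) := by
        rw [← LinearMap.ker_eq_bot, LinearMap.ker_eq_bot']
        intro z hz
        have h1 : (z : R) * α = 0 := by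
          rw [adjoin_comm z.2 a.2]; exact congrArg Subtype.val hz
        exact Subtype.ext (by
          rw [← mul_one (z : R), ← hright, ← mul_assoc, h1, zero_mul]; rfl)
      obtain ⟨b, hb⟩ := LinearMap.surjective_of_injective hinj 1
      have hb1 : (b : R) * α = 1 := by rw [adjoin_comm b.2 a.2]; exact congrArg Subtype.val hb
      have : star α = algebraMap ℚ R q * (b : R) := by
        calc star α = ((b : R) * α) * star α := by rw [hb1, one_mul]
          _ = (b : R) * algebraMap ℚ R q := by rw [mul_assoc, hα]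
          _ = _ := (Algebra.commutes q (b : R)).symm
      rw [this]
      exact S.mul_mem (S.algebraMap_mem q) b.2
  refine ⟨hmem, fun ρ => ?_⟩
  set a : S := ⟨α, Algebra.self_mem_adjoin_singleton ℚ α⟩ with ha
  set a' : S := ⟨star α, hmem⟩ with ha'
  have comm : α * star α = star α * α := adjoin_comm a.2 a'.2
  have real : ∀ s : S, star (s : R) = s → (ρ s).im = 0 := by
    intro s hs
    refine (sym_minpoly hpos hs).2 _ ?_
    rw [show (s : R) = S.val s from rfl, minpoly.algHom_eq S.val Subtype.val_injective s,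
      aeval_algHom_apply, minpoly.aeval, map_zero]
  have h1 : (ρ (a + a')).im = 0 := real _ (by
    show star (α + star α) = α + star α
    rw [star_add, star_star, add_comm])
  -- the skew part has purely imaginary image
  obtain ⟨γ, hγ⟩ : ∃ γ : S, γ = a - a' := ⟨_, rfl⟩
  obtain ⟨δ, hδ⟩ : ∃ δ : S, δ = -(γ * γ) := ⟨_, rfl⟩
  have hγs : star (γ : R) = -(γ : R) := by
    rw [hγ]; show star (α - star α) = -(α - star α)
    rw [star_sub, star_star, neg_sub]
  have hδR : (δ : R) = (γ : R) * star (γ : R) := by rw [hδ, hγs, mul_neg]; rfl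
  have hδs : star (δ : R) = δ := by rw [hδR, star_mul, star_star]
  have hsub : Algebra.adjoin ℚ ({(δ : R)} : Set R) ≤ S := Algebra.adjoin_le (by simp [δ.2])
  obtain ⟨n, y, hy, hsum⟩ := sum_squares hpos hδs (fun w hw => by
    have e : w * (δ : R) * w = (w * γ) * star (w * γ) := by
      rw [star_mul, (adjoin_symmetric hδs _ hw).1, hδR]
      simp only [mul_assoc]
    rw [e]; exact nonneg hpos _)
  have hρδ : 0 ≤ (ρ δ).re ∧ (ρ δ).im = 0 := by
    have : δ = ∑ i, (⟨y i, hsub (hy i)⟩ : S) ^ 2 := Subtype.ext (by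
      rw [hsum, AddSubmonoidClass.coe_finset_sum]
      exact sum_congr rfl fun i _ => rfl)
    rw [this, map_sum, Complex.re_sum, Complex.im_sum]
    have hi : ∀ i, (ρ (⟨y i, hsub (hy i)⟩ : S)).im = 0 := fun i =>
      real _ ((adjoin_symmetric hδs _ (hy i)).1)
    constructor
    · refine sum_nonneg fun i _ => ?_
      rw [map_pow, pow_two, Complex.mul_re, hi i, mul_zero, sub_zero]
      exact mul_self_nonneg _
    · refine sum_eq_zero fun i _ => ?_
      rw [map_pow, pow_two, Complex.mul_im, hi i, mul_zero, zero_mul, add_zero]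
  have hre : (ρ γ).re = 0 := by
    rw [hδ, map_neg, map_mul, Complex.neg_re, Complex.neg_im, Complex.mul_re, Complex.mul_im] at hρδ
    obtain ⟨h2, h3⟩ := hρδ
    by_contra hne
    have him0 : (ρ γ).im = 0 := by
      have : (ρ γ).re * (ρ γ).im = 0 := by linarith
      exact (mul_eq_zero.1 this).resolve_left hne
    rw [him0] at h2
    have := mul_self_pos.2 hne
    linarith
  rw [hγ, map_sub, Complex.sub_re] at hre
  rw [map_add, Complex.add_im] at h1
  have hconj : ρ a' = starRingEnd ℂ (ρ a) :=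
    Complex.ext (by rw [Complex.conj_re]; linarith) (by rw [Complex.conj_im]; linarith)
  refine ⟨hconj, ?_⟩
  have hprod : ρ a * ρ a' = (q : ℂ) := by
    rw [← map_mul, show a * a' = algebraMap ℚ S q from Subtype.ext hα, AlgHom.commutes]
    rfl
  rw [hconj, Complex.mul_conj] at hprod
  rw [← Complex.normSq_eq_norm_sq]
  have := congrArg Complex.re hprod
  simpa using this

end Groth.L26.PosInv
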