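import Groth.Agent.L11.CSA.RedNorm
import Mathlib.Algebra.DirectSum.LinearMap
import Mathlib.LinearAlgebra.Matrix.Block
import Mathlib.LinearAlgebra.Charpoly.ToMatrix
import Mathlib.LinearAlgebra.Eigenspace.Semisimple
import Mathlib.LinearAlgebra.Eigenspace.Minpoly
import Mathlib.FieldTheory.PrimitiveElement
import Mathlib.RingTheory.Trace.Basic
import Mathlib.RingTheory.Norm.Basic

/-!
# Representations of simple algebras with rational characteristic polynomials
-/

set_option autoImplicit false
set_option linter.style.haveILetI false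
set_option linter.unusedSectionVars false

open scoped TensorProduct
open Polynomial

noncomputable section

namespace Groth.Agent.SimpleRep

variable {Ω : Type*} [Field Ω]

theorem det_blockDiagonal' {ι : Type*} [Fintype ι] [DecidableEq ι] {κ : ι → Type*} [∀ i, Fintype (κ i)]
    [∀ i, DecidableEq (κ i)] {R : Type*} [CommRing R] (M : ∀ i, Matrix (κ i) (κ i) R) :
    (Matrix.blockDiagonal' M).det = ∏ i, (M i).det := by
  letI : LinearOrder ι := LinearOrder.lift' (Fintype.equivFin ι) (Fintype.equivFin ι).injective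
  have h : (Matrix.blockDiagonal' M).BlockTriangular Sigma.fst := fun a b hab => by
    obtain ⟨i, x⟩ := a
    obtain ⟨j, y⟩ := b
    exact Matrix.blockDiagonal'_apply_ne _ _ _ (show i ≠ j from (ne_of_lt hab).symm)
  rw [h.det_fintype]
  refine Finset.prod_congr rfl fun i _ => ?_
  rw [← Matrix.det_submatrix_equiv_self (Equiv.sigmaSubtype i).symm]
  congr 1
  ext a b
  exact Matrix.blockDiagonal'_apply_eq _ _ _ _

theorem charpoly_eq_prod_restrict {V : Type*} [AddCommGroup V] [Module Ω V] [FiniteDimensional Ω V]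
    {ι : Type*} [Fintype ι] [DecidableEq ι] {N : ι → Submodule Ω V} (h : DirectSum.IsInternal N)
    (f : Module.End Ω V) (hf : ∀ i, ∀ v ∈ N i, f v ∈ N i) :
    f.charpoly = ∏ i, (f.restrict (hf i)).charpoly := by
  classical
  let b : ∀ i, Module.Basis (Module.Free.ChooseBasisIndex Ω (N i)) Ω (N i) := fun i => Module.Free.chooseBasis Ω (N i)
  rw [← LinearMap.charpoly_toMatrix f (h.collectedBasis b),
    LinearMap.toMatrix_directSum_collectedBasis_eq_blockDiagonal' h h b b (fun i v hv => hf i v hv)]
  have hc : ∀ M : ∀ i, Matrix (Module.Free.ChooseBasisIndex Ω (N i)) (Module.Free.ChooseBasisIndex Ω (N i)) Ω,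
      (Matrix.blockDiagonal' M).charmatrix = Matrix.blockDiagonal' fun i => (M i).charmatrix := by
    intro M
    ext1 ⟨i, x⟩ ⟨j, y⟩
    rcases eq_or_ne i j with rfl | hij
    · simp [Matrix.charmatrix_apply, Matrix.blockDiagonal'_apply_eq, Matrix.diagonal_apply, sub_eq_add_neg]
    · have hne : (⟨i, x⟩ : (i : ι) × Module.Free.ChooseBasisIndex Ω (N i)) ≠ ⟨j, y⟩ := fun e => hij (congrArg Sigma.fst e)
      rw [Matrix.charmatrix_apply_ne _ _ _ hne, Matrix.blockDiagonal'_apply_ne _ _ _ hij,
        Matrix.blockDiagonal'_apply_ne _ _ _ hij, map_zero, neg_zero]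
  rw [Matrix.charpoly, hc, det_blockDiagonal']
  refine Finset.prod_congr rfl fun i _ => ?_
  exact LinearMap.charpoly_toMatrix (f.restrict (hf i)) (b i)

/-- A representation of a matrix algebra is a multiple of the standard one. -/
theorem exists_charpoly_eq_pow {V : Type*} [AddCommGroup V] [Module Ω V] [FiniteDimensional Ω V] {n : ℕ} [NeZero n]
    (f : Matrix (Fin n) (Fin n) Ω →ₐ[Ω] Module.End Ω V) :
    ∃ r : ℕ, Module.finrank Ω V = r * n ∧ ∀ X, (f X).charpoly = X.charpoly ^ r := by
  classical
  let E : Fin n → Fin n → Module.End Ω V := fun i j => f (Matrix.single i j 1)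
  have hE : ∀ i j k l, E i j * E k l = if j = k then E i l else 0 := by
    intro i j k l
    simp only [E, ← map_mul]
    split_ifs with h
    · subst h
      rw [Matrix.single_mul_single_same, mul_one]
    · rw [Matrix.single_mul_single_of_ne _ _ _ _ h, map_zero]
  let W : Submodule Ω V := LinearMap.range (E 0 0)
  let w := Module.finBasis Ω W
  set r := Module.finrank Ω W with hr
  have hW : ∀ j, E 0 0 (w j : V) = w j := fun j => by
    obtain ⟨v, hv⟩ := (w j).2
    rw [← hv, ← Module.End.mul_apply, hE, if_pos rfl]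
  let vec : Fin n × Fin r → V := fun p => E p.1 0 (w p.2 : V)
  have happ : ∀ i j (p : Fin n × Fin r), E i j (vec p) = if j = p.1 then vec (i, p.2) else 0 := by
    intro i j p
    simp only [vec, ← Module.End.mul_apply, hE]
    split_ifs <;> rfl
  have hli : LinearIndependent Ω vec := by
    rw [Fintype.linearIndependent_iff]
    rintro c hc ⟨l, j⟩
    have h := congrArg (E 0 l) hc
    rw [map_sum, map_zero] at h
    simp only [map_smul, happ, smul_ite, smul_zero] at h
    rw [Fintype.sum_prod_type, Finset.sum_eq_single l (fun i _ hi => by simp [Ne.symm hi]) (by simp)] at h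
    simp only [if_true] at h
    have h2 : ∑ j, c (l, j) • w j = 0 := Subtype.ext (by
      simp only [AddSubmonoidClass.coe_finsetSum, Submodule.coe_smul, ZeroMemClass.coe_zero]
      convert h using 2 with j
      rw [show vec (0, j) = (w j : V) from hW j])
    exact Fintype.linearIndependent_iff.1 w.linearIndependent (fun j => c (l, j)) h2 j
  have hsp : ⊤ ≤ Submodule.span Ω (Set.range vec) := by
    intro v _
    have hv : v = ∑ i, E i 0 (E 0 i v) := by
      simp only [← Module.End.mul_apply, hE, if_true]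
      have h1 : ∑ i, E i i = 1 := by
        simp only [E]
        rw [← map_sum, ← map_one f]
        congr 1
        ext a b
        simp [Matrix.sum_apply, Matrix.single_apply, Matrix.one_apply, ite_and]
      rw [← LinearMap.sum_apply, h1, Module.End.one_apply]
    rw [hv]
    refine Submodule.sum_mem _ fun i _ => ?_
    have hm : E 0 i v ∈ W := ⟨E 0 i v, by rw [← Module.End.mul_apply, hE, if_pos rfl]⟩
    rw [show E 0 i v = ((⟨_, hm⟩ : W) : V) from rfl, ← w.sum_repr ⟨_, hm⟩]
    simp only [AddSubmonoidClass.coe_finsetSum, Submodule.coe_smul, map_sum, map_smul]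
    exact Submodule.sum_mem _ fun j _ => Submodule.smul_mem _ _ (Submodule.subset_span ⟨(i, j), rfl⟩)
  let b := Module.Basis.mk hli hsp
  refine ⟨r, by rw [Module.finrank_eq_card_basis b, Fintype.card_prod, Fintype.card_fin, Fintype.card_fin, mul_comm],
    fun X => ?_⟩
  have hX : LinearMap.toMatrix b b (f X) = Matrix.blockDiagonal fun _ : Fin r => X := by
    have hfX : f X = ∑ i, ∑ j, X i j • E i j := by
      simp only [E, ← map_smul, ← map_sum]
      congr 1
      conv_lhs => rw [Matrix.matrix_eq_sum_single X]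
      simp [Matrix.smul_single]
    ext ⟨a, s⟩ ⟨c, t⟩
    have hb : ∀ p, b p = vec p := fun p => Module.Basis.mk_apply hli hsp p
    rw [LinearMap.toMatrix_apply, hfX, hb]
    simp only [LinearMap.sum_apply, LinearMap.smul_apply, happ, smul_ite, smul_zero, Finset.sum_ite_eq',
      Finset.mem_univ, if_true]
    simp only [map_sum, map_smul, ← hb, Module.Basis.repr_self, Finsupp.coe_finset_sum,
      Finsupp.coe_smul, Finset.sum_apply, Pi.smul_apply, smul_eq_mul]
    rw [Matrix.blockDiagonal_apply, Finset.sum_eq_single a]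
    · rcases eq_or_ne s t with rfl | hst
      · simp
      · simp [Finsupp.single_apply, hst, Ne.symm hst]
    · intro i _ hi
      simp [Finsupp.single_apply, hi]
    · simp
  rw [← LinearMap.charpoly_toMatrix (f X) b, hX, Matrix.charpoly]
  have hc : (Matrix.blockDiagonal fun _ : Fin r => X).charmatrix = Matrix.blockDiagonal fun _ : Fin r => X.charmatrix := by
    ext1 ⟨i, s⟩ ⟨j, t⟩
    rcases eq_or_ne s t with rfl | hst
    · simp [Matrix.charmatrix_apply, Matrix.blockDiagonal_apply_eq, Matrix.diagonal_apply]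
    · rw [Matrix.charmatrix_apply_ne _ _ _ (fun e => hst (congrArg Prod.snd e)),
        Matrix.blockDiagonal_apply_ne _ _ _ hst, Matrix.blockDiagonal_apply_ne _ _ _ hst, map_zero, neg_zero]
  rw [hc, Matrix.det_blockDiagonal, Finset.prod_const, Finset.card_univ, Fintype.card_fin, Matrix.charpoly]

variable [CharZero Ω] [IsAlgClosed Ω]

/-- A representation of a central simple `F`-algebra with rational characteristic polynomial on a
generator of `F` is a multiple of the sum of the reduced representations. -/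
theorem exists_rank {V : Type*} [AddCommGroup V] [Module Ω V] [FiniteDimensional Ω V]
    (F : Type*) [Field F] [CharZero F] [Module.Finite ℚ F] {D : Type*} [Ring D] [Algebra F D]
    [Algebra.IsCentral F D] [IsSimpleRing D] [FiniteDimensional F D]
    (ρ : D →+* Module.End Ω V) (θ : F) (hθ : IntermediateField.adjoin ℚ {θ} = ⊤)
    (hrat : ∃ Q : ℚ[X], Q.map (algebraMap ℚ Ω) = (ρ (algebraMap F D θ)).charpoly) :
    ∃ r : ℕ, Module.finrank Ω V = Module.finrank ℚ F * Groth.L11.RN.deg F D * r ∧
      ∀ x : D, (ρ x).charpoly = (∏ σ : F →ₐ[ℚ] Ω, (Groth.L11.RN.rcp F x).map σ.toRingHom) ^ r := by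
  classical
  let T := ρ (algebraMap F D θ)
  have hθi : IsIntegral ℚ θ := IsIntegral.of_finite ℚ θ
  have hgen : ∀ x : F, ∃ p : ℚ[X], aeval θ p = x := by
    intro x
    have hx : x ∈ (IntermediateField.adjoin ℚ {θ}).toSubalgebra := by rw [hθ]; trivial
    rw [IntermediateField.adjoin_simple_toSubalgebra_of_isAlgebraic hθi.isAlgebraic,
      Algebra.adjoin_singleton_eq_range_aeval] at hx
    exact hx
  have hT : ∀ p : ℚ[X], ρ (algebraMap F D (aeval θ p)) = aeval T (p.map (algebraMap ℚ Ω)) := fun p => by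
    rw [aeval_def, aeval_def, eval₂_map, ← RingHom.comp_apply, hom_eval₂]
    exact congrArg (fun g => eval₂ g T p) (Subsingleton.elim _ _)
  let m := minpoly ℚ θ
  have hm0 : aeval T (m.map (algebraMap ℚ Ω)) = 0 := by
    rw [← hT, minpoly.aeval, map_zero, map_zero]
  have hsep : (m.map (algebraMap ℚ Ω)).Separable := (minpoly.irreducible hθi).separable.map
  have hss : T.IsSemisimple := Module.End.isSemisimple_of_squarefree_aeval_eq_zero hsep.squarefree hm0
  let N : (F →ₐ[ℚ] Ω) → Submodule Ω V := fun σ => Module.End.eigenspace T (σ θ)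
  have hσinj : Function.Injective fun σ : F →ₐ[ℚ] Ω => σ θ := fun σ τ h => AlgHom.ext fun x => by
    obtain ⟨p, rfl⟩ := hgen x
    rw [← aeval_algHom_apply, ← aeval_algHom_apply]
    exact congrArg (fun a => aeval a p) h
  have hroots : ∀ μ : Ω, Module.End.eigenspace T μ ≠ ⊥ → ∃ σ : F →ₐ[ℚ] Ω, σ θ = μ := by
    intro μ hμ
    obtain ⟨v, hv, hv0⟩ := Submodule.exists_mem_ne_zero_of_ne_bot hμ
    have h := Module.End.aeval_apply_of_hasEigenvector (f := T) (μ := μ) ⟨hv, hv0⟩ (p := m.map (algebraMap ℚ Ω))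
    rw [hm0, LinearMap.zero_apply, eq_comm, smul_eq_zero, or_iff_left hv0, eval_map, ← aeval_def] at h
    have hμm : μ ∈ m.aroots Ω := mem_aroots.2 ⟨minpoly.ne_zero hθi, h⟩
    have h2 : μ ∈ Set.range fun ψ : F →ₐ[ℚ] Ω => ψ θ := by
      rw [Algebra.IsAlgebraic.range_eval_eq_rootSet_minpoly]
      exact Finset.mem_coe.2 (Multiset.mem_toFinset.2 hμm)
    exact h2
  have hindep : iSupIndep N := (Module.End.eigenspaces_iSupIndep T).comp hσinj
  have htop : iSup N = ⊤ := by
    refine top_le_iff.1 ?_
    rw [← hss.iSup_eigenspace_eq_top]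
    refine iSup_le fun μ => ?_
    by_cases hμ : Module.End.eigenspace T μ = ⊥
    · rw [hμ]; exact bot_le
    · obtain ⟨σ, rfl⟩ := hroots μ hμ
      exact le_iSup N σ
  have hint : DirectSum.IsInternal N := DirectSum.isInternal_submodule_of_iSupIndep_of_iSup_eq_top hindep htop
  have hstab : ∀ (x : D) σ, ∀ v ∈ N σ, ρ x v ∈ N σ := by
    intro x σ v hv
    rw [Module.End.mem_eigenspace_iff] at hv ⊢
    have hc : T * ρ x = ρ x * T := by rw [← map_mul, ← map_mul, Algebra.commutes]
    rw [← Module.End.mul_apply, hc, Module.End.mul_apply, hv, map_smul]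
  -- the piece of an embedding
  have hpiece : ∀ σ : F →ₐ[ℚ] Ω, ∃ r : ℕ, Module.finrank Ω (N σ) = r * Groth.L11.RN.deg F D ∧
      ∀ x : D, ((ρ x).restrict (hstab x σ)).charpoly = ((Groth.L11.RN.rcp F x).map σ.toRingHom) ^ r := by
    intro σ
    letI : Algebra F Ω := σ.toRingHom.toAlgebra
    obtain ⟨n, hn, ⟨φ⟩⟩ := Groth.L11.CSA.exists_algEquiv_matrix_baseChange F D Ω
    haveI : NeZero n := ⟨hn⟩
    obtain rfl : Groth.L11.RN.deg F D = n :=
      Nat.pow_left_injective two_ne_zero (Groth.L11.RN.finrank_eq_deg_sq.symm.trans (Groth.L11.RN.size_eq φ))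
    let π : D →+* Module.End Ω (N σ) :=
      { toFun := fun x => (ρ x).restrict (hstab x σ)
        map_one' := LinearMap.ext fun v => Subtype.ext (by
          show ρ 1 v = (v : V)
          rw [map_one, Module.End.one_apply])
        map_mul' := fun x y => LinearMap.ext fun v => Subtype.ext (by
          show ρ (x * y) v = ρ x (ρ y v)
          rw [map_mul, Module.End.mul_apply])
        map_zero' := LinearMap.ext fun v => Subtype.ext (by
          show ρ 0 v = ((0 : Module.End Ω (N σ)) v : V)
          simp)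
        map_add' := fun x y => LinearMap.ext fun v => Subtype.ext (by
          show ρ (x + y) v = ρ x v + ρ y v
          rw [map_add, LinearMap.add_apply]) }
    letI : Algebra F (Module.End Ω (N σ)) :=
      ((algebraMap Ω (Module.End Ω (N σ))).comp (algebraMap F Ω)).toAlgebra' fun c x => Algebra.commutes (algebraMap F Ω c) x
    haveI : IsScalarTower F Ω (Module.End Ω (N σ)) := IsScalarTower.of_algebraMap_eq fun c => rfl
    let πF : D →ₐ[F] Module.End Ω (N σ) :=
      { π with
        commutes' := fun c => LinearMap.ext fun v => Subtype.ext (by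
          show ρ (algebraMap F D c) v = algebraMap F Ω c • (v : V)
          obtain ⟨p, rfl⟩ := hgen c
          have hv : T (v : V) = σ θ • (v : V) := Module.End.mem_eigenspace_iff.1 v.2
          rw [hT]
          show aeval T (p.map (algebraMap ℚ Ω)) (v : V) = σ (aeval θ p) • (v : V)
          rw [← aeval_algHom_apply]
          by_cases hv0 : (v : V) = 0
          · rw [hv0, map_zero, smul_zero]
          rw [Module.End.aeval_apply_of_hasEigenvector (μ := σ θ) ⟨v.2, hv0⟩, eval_map, ← aeval_def]) }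
    let Φ : Ω ⊗[F] D →ₐ[Ω] Module.End Ω (N σ) :=
      Algebra.TensorProduct.lift (Algebra.ofId Ω _) πF fun a b => Algebra.commutes a (πF b)
    obtain ⟨r, hr1, hr2⟩ := exists_charpoly_eq_pow (Φ.comp φ.symm.toAlgHom)
    refine ⟨r, hr1, fun x => ?_⟩
    have h := hr2 (Groth.L11.CSA.repr φ x)
    rw [AlgHom.comp_apply, Groth.L11.CSA.repr_apply] at h
    have hx : Φ (φ.symm (φ ((1 : Ω) ⊗ₜ[F] x))) = (ρ x).restrict (hstab x σ) := by
      rw [φ.symm_apply_apply]
      show Algebra.ofId Ω _ (1 : Ω) * πF x = _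
      rw [map_one, one_mul]
      rfl
    rw [← hx]
    refine h.trans ?_
    rw [← Groth.L11.CSA.repr_apply φ x, ← Groth.L11.RN.rcp_spec φ x]
    rfl
  choose r hr hrc using hpiece
  set d := Groth.L11.RN.deg F D with hd
  have hd0 : d ≠ 0 := Groth.L11.RN.deg_ne_zero
  have hchar : ∀ x : D, (ρ x).charpoly = ∏ σ, ((Groth.L11.RN.rcp F x).map σ.toRingHom) ^ r σ := fun x => by
    rw [charpoly_eq_prod_restrict hint (ρ x) (hstab x)]
    exact Finset.prod_congr rfl fun σ _ => hrc σ x
  -- equal multiplicities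
  have hTc : T.charpoly = ∏ σ : F →ₐ[ℚ] Ω, (X - C (σ θ)) ^ (r σ * d) := by
    rw [charpoly_eq_prod_restrict hint T (hstab _)]
    refine Finset.prod_congr rfl fun σ _ => ?_
    have : T.restrict (hstab _ σ) = (σ θ) • (1 : Module.End Ω (N σ)) := LinearMap.ext fun v => Subtype.ext (by
      show T (v : V) = σ θ • (v : V)
      exact Module.End.mem_eigenspace_iff.1 v.2)
    rw [this, show (σ θ) • (1 : Module.End Ω (N σ)) = 0 - (-(σ θ)) • 1 from LinearMap.ext fun v => Subtype.ext (by simp), ← hr σ]
    rw [LinearMap.charpoly_sub_smul, LinearMap.charpoly_zero, X_pow_comp, C_neg, ← sub_eq_add_neg]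
  obtain ⟨Q, hQ⟩ := hrat
  have hmult : ∀ σ : F →ₐ[ℚ] Ω, rootMultiplicity (σ θ) (Q.map (algebraMap ℚ Ω)) = r σ * d := by
    intro σ
    rw [hQ, hTc, ← count_roots, roots_prod _ _ (Finset.prod_ne_zero_iff.2 fun τ _ => pow_ne_zero _ (X_sub_C_ne_zero _)),
      Multiset.count_bind]
    simp only [roots_pow, roots_X_sub_C, Multiset.count_nsmul, Multiset.count_singleton]
    show ∑ τ : F →ₐ[ℚ] Ω, _ = _
    rw [Finset.sum_eq_single σ (fun τ _ hτ => by rw [if_neg (fun e => hτ (hσinj e).symm), mul_zero]) (by simp)]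
    rw [if_pos rfl, mul_one]
  have hQ0 : Q ≠ 0 := fun h => T.charpoly_monic.ne_zero (by rw [← hQ, h, Polynomial.map_zero])
  obtain ⟨e, q, hq, hQe⟩ := WfDvdMonoid.max_power_factor hQ0 (minpoly.irreducible hθi)
  have hconst : ∀ σ : F →ₐ[ℚ] Ω, r σ * d = e := by
    intro σ
    rw [← hmult σ, hQe, Polynomial.map_mul, Polynomial.map_pow]
    have hroot : aeval (σ θ) m = 0 := by rw [aeval_algHom_apply, minpoly.aeval, map_zero]
    have hq0 : aeval (σ θ) q ≠ 0 := by
      rw [aeval_algHom_apply]
      exact (map_ne_zero σ).2 fun h => hq (minpoly.dvd ℚ θ h)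
    have hne : (m.map (algebraMap ℚ Ω)) ^ e * q.map (algebraMap ℚ Ω) ≠ 0 := by
      rw [← Polynomial.map_pow, ← Polynomial.map_mul, ← hQe]
      exact (Polynomial.map_ne_zero_iff (algebraMap ℚ Ω).injective).2 hQ0
    rw [← count_roots, roots_mul hne, roots_pow, Multiset.count_add, Multiset.count_nsmul, count_roots, count_roots,
      rootMultiplicity_eq_zero (p := q.map _) (by rwa [IsRoot.def, eval_map, ← aeval_def]), add_zero]
    have h1 : rootMultiplicity (σ θ) (m.map (algebraMap ℚ Ω)) = 1 := by
      refine le_antisymm (rootMultiplicity_le_one_of_separable hsep _) ?_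
      rw [Nat.succ_le_iff, rootMultiplicity_pos ((Polynomial.map_ne_zero_iff (algebraMap ℚ Ω).injective).2
        (minpoly.ne_zero hθi)), IsRoot.def, eval_map, ← aeval_def]
      exact hroot
    rw [h1, mul_one]
  obtain ⟨σ₀⟩ : Nonempty (F →ₐ[ℚ] Ω) := ⟨IsAlgClosed.lift⟩
  have hr0 : ∀ σ, r σ = r σ₀ := fun σ =>
    Nat.eq_of_mul_eq_mul_right (Nat.pos_of_ne_zero hd0) ((hconst σ).trans (hconst σ₀).symm)
  refine ⟨r σ₀, ?_, fun x => ?_⟩
  · have h := congrArg natDegree hTc
    rw [LinearMap.charpoly_natDegree, natDegree_prod _ _ fun τ _ => pow_ne_zero _ (X_sub_C_ne_zero _)] at h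
    simp only [natDegree_pow, natDegree_X_sub_C, mul_one, hr0, Finset.sum_const, Finset.card_univ,
      AlgHom.card, smul_eq_mul] at h
    rw [h]
    ring
  · rw [hchar, ← Finset.prod_pow]
    exact Finset.prod_congr rfl fun σ _ => by rw [hr0 σ]

end Groth.Agent.SimpleRep
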