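import Mathlib.Analysis.Complex.Basic
import Mathlib.Algebra.BigOperators.Ring.Finset
import Mathlib.Algebra.BigOperators.Group.Finset.Powerset
import Mathlib.Data.Nat.Choose.Sum
import Mathlib.Algebra.Polynomial.Eval.Defs
import Mathlib.Algebra.Polynomial.Eval.Coeff

/-!
# Alternating products over the subsets of a finite family
-/

set_option autoImplicit false

noncomputable section

namespace Groth.Agent.AV.SubsetProd

variable {ι : Type*} [Fintype ι] [DecidableEq ι] (r : ι → ℂ)

theorem prod_scalar_eq_one (hr : ∀ i, r i ≠ 0) (a : ℂ) (ha : a ≠ 0) (s : Finset ι) (hs : 2 ≤ s.card) :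
    ∏ I ∈ s.powerset, (a * ∏ i ∈ I, r i) ^ ((-1 : ℤ) ^ (I.card + 1)) = 1 := by
  obtain ⟨i, hi⟩ := Finset.card_pos.1 (by omega : 0 < s.card)
  have hw : ∀ I : Finset ι, a * ∏ j ∈ I, r j ≠ 0 := fun I =>
    mul_ne_zero ha (Finset.prod_ne_zero_iff.2 fun j _ => hr j)
  conv_lhs => rw [← Finset.insert_erase hi]
  rw [Finset.prod_powerset_insert (Finset.notMem_erase i s), ← Finset.prod_mul_distrib]
  have hsum : ∑ I ∈ (s.erase i).powerset, (-1 : ℤ) ^ I.card = 0 :=
    Finset.sum_powerset_neg_one_pow_card_of_nonempty (Finset.card_pos.1 (by rw [Finset.card_erase_of_mem hi]; omega))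
  calc ∏ I ∈ (s.erase i).powerset, (a * ∏ j ∈ I, r j) ^ ((-1 : ℤ) ^ (I.card + 1)) *
        (a * ∏ j ∈ insert i I, r j) ^ ((-1 : ℤ) ^ ((insert i I).card + 1))
      = ∏ I ∈ (s.erase i).powerset, r i ^ ((-1 : ℤ) ^ I.card) := by
        refine Finset.prod_congr rfl fun I hI => ?_
        have hni : i ∉ I := fun h => Finset.notMem_erase i s (Finset.mem_powerset.1 hI h)
        rw [Finset.prod_insert hni, Finset.card_insert_of_notMem hni, mul_left_comm a (r i)]
        generalize hwI : a * ∏ j ∈ I, r j = w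
        have hw0 : w ≠ 0 := hwI ▸ hw I
        rw [mul_zpow, mul_left_comm, ← zpow_add₀ hw0,
          show (-1 : ℤ) ^ (I.card + 1) + (-1) ^ (I.card + 1 + 1) = 0 by ring, zpow_zero, mul_one,
          show (-1 : ℤ) ^ (I.card + 1 + 1) = (-1) ^ I.card by ring]
    _ = 1 := by
        have key : ∀ (S : Finset (Finset ι)) (e : Finset ι → ℤ), ∏ I ∈ S, r i ^ e I = r i ^ (∑ I ∈ S, e I) := by
          intro S e
          induction S using Finset.induction_on with
          | empty => simp
          | insert x S hx ih => rw [Finset.prod_insert hx, Finset.sum_insert hx, ih, zpow_add₀ (hr i)]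
        rw [key, hsum, zpow_zero]

/-- The factor of degree `j`. -/
def F (j : ℕ) (t : ℂ) : ℂ := ∏ I ∈ Finset.powersetCard j Finset.univ, (1 - (∏ i ∈ I, r i) * t)

theorem functional_equation (hr : ∀ i, r i ≠ 0) {n : ℕ} (hn : Fintype.card ι = n) (heven : Even n) (h2 : 2 ≤ n)
    {c : ℂ} (hc : c = ∏ i, r i) {t : ℂ} (ht : t ≠ 0) :
    ∏ j ∈ Finset.range (n + 1), F r j ((c * t)⁻¹) ^ ((-1 : ℤ) ^ (j + 1)) =
      ∏ j ∈ Finset.range (n + 1), F r j t ^ ((-1 : ℤ) ^ (j + 1)) := by
  have hc0 : c ≠ 0 := hc ▸ Finset.prod_ne_zero_iff.2 fun i _ => hr i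
  let a : ℂ := -(c * t)⁻¹
  have ha : a ≠ 0 := neg_ne_zero.2 (inv_ne_zero (mul_ne_zero hc0 ht))
  have step : ∀ j ∈ Finset.range (n + 1), F r j ((c * t)⁻¹) =
      (∏ I ∈ Finset.powersetCard j (Finset.univ : Finset ι), a * ∏ i ∈ I, r i) * F r (n - j) t := by
    intro j hj
    rw [Finset.mem_range] at hj
    have hcompl : F r (n - j) t = ∏ I ∈ Finset.powersetCard j Finset.univ, (1 - (∏ i ∈ Iᶜ, r i) * t) := by
      refine Finset.prod_nbij' (fun I => Iᶜ) (fun I => Iᶜ) ?_ ?_ (fun I _ => compl_compl I)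
        (fun I _ => compl_compl I) (fun I _ => by rw [compl_compl])
      · intro I hI
        rw [Finset.mem_powersetCard] at hI ⊢
        exact ⟨Finset.subset_univ _, by rw [Finset.card_compl, hn, hI.2]; omega⟩
      · intro I hI
        rw [Finset.mem_powersetCard] at hI ⊢
        exact ⟨Finset.subset_univ _, by rw [Finset.card_compl, hn, hI.2]⟩
    rw [hcompl, F, ← Finset.prod_mul_distrib]
    refine Finset.prod_congr rfl fun I _ => ?_
    have e : (∏ i ∈ I, r i) * ∏ i ∈ Iᶜ, r i = c := hc ▸ Finset.prod_mul_prod_compl I r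
    simp only [a]
    field_simp
    rw [← e]
    ring
  rw [Finset.prod_congr rfl fun j hj => by rw [step j hj, mul_zpow], Finset.prod_mul_distrib]
  have hK : ∏ j ∈ Finset.range (n + 1),
      (∏ I ∈ Finset.powersetCard j (Finset.univ : Finset ι), a * ∏ i ∈ I, r i) ^ ((-1 : ℤ) ^ (j + 1)) = 1 := by
    have h := prod_scalar_eq_one r hr a ha Finset.univ (by rw [Finset.card_univ, hn]; exact h2)
    rw [Finset.prod_powerset, Finset.card_univ, hn] at h
    rw [← h]
    refine Finset.prod_congr rfl fun j _ => ?_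
    rw [← Finset.prod_zpow]
    exact Finset.prod_congr rfl fun I hI => by rw [(Finset.mem_powersetCard.1 hI).2]
  rw [hK, one_mul, ← Finset.prod_range_reflect (fun j => F r j t ^ ((-1 : ℤ) ^ (j + 1)))]
  refine Finset.prod_congr rfl fun j hj => ?_
  rw [Finset.mem_range] at hj
  simp only [Nat.add_sub_cancel]
  congr 1
  obtain ⟨m, rfl⟩ := heven
  rw [neg_one_pow_eq_pow_mod_two, neg_one_pow_eq_pow_mod_two (n := m + m - j + 1)]
  congr 1
  omega

/-- Evaluation of the product of the linear factors indexed by the sub-multisets. -/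
theorem eval_prod_powersetCard (j : ℕ) (t : ℂ) :
    Polynomial.eval t ((((Finset.univ : Finset ι).val.map r).powersetCard j).map
      (fun I => (1 : Polynomial ℂ) - Polynomial.C I.prod * Polynomial.X)).prod = F r j t := by
  rw [Multiset.powersetCard_map, Multiset.map_map, Polynomial.eval_multiset_prod, Multiset.map_map, F,
    Finset.prod_eq_multiset_prod, ← Finset.map_val_val_powersetCard, Multiset.map_map]
  refine congrArg Multiset.prod (Multiset.map_congr rfl fun I _ => ?_)
  simp [Polynomial.eval_prod]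

end Groth.Agent.AV.SubsetProd
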