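import Groth.Agent.L11.Weil.Newton
import Mathlib.Analysis.Complex.Polynomial.Basic
import Mathlib.FieldTheory.Galois.Basic
import Mathlib.FieldTheory.SplittingField.Construction
import Mathlib.RingTheory.IntegralClosure.IntegrallyClosed
import Mathlib.RingTheory.Polynomial.RationalRoot
import Mathlib.Algebra.BigOperators.Group.Finset.Powerset

/-!
# The exterior factors of a polynomial and their alternating product as a zeta function
-/

set_option autoImplicit false

noncomputable section

namespace Groth.Agent.AV.SubsetZeta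

open Polynomial

/-- The product of the linear factors indexed by sub-multisets of size `j`. -/
def ext {K : Type*} [CommRing K] (R : Multiset K) (j : ℕ) : K[X] :=
  ((R.powersetCard j).map fun I => (1 : K[X]) - C I.prod * X).prod

theorem map_ext {K L : Type*} [CommRing K] [CommRing L] (f : K →+* L) (R : Multiset K) (j : ℕ) :
    (ext R j).map f = ext (R.map f) j := by
  rw [ext, ext, Multiset.powersetCard_map, Multiset.map_map, Polynomial.map_multiset_prod, Multiset.map_map]
  refine congrArg Multiset.prod (Multiset.map_congr rfl fun I _ => ?_)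
  simp [map_multiset_prod, Polynomial.map_multiset_prod, Multiset.map_map, Function.comp_def]

/-- The exterior factors have integral coefficients. -/
theorem exists_int_ext (P : ℤ[X]) (hP : P.Monic) (j : ℕ) :
    ∃ Q : ℤ[X], Q.map (Int.castRingHom ℂ) = ext (P.map (Int.castRingHom ℂ)).roots j := by
  let p : ℚ[X] := P.map (Int.castRingHom ℚ)
  let L := p.SplittingField
  have hsplit : (P.map (algebraMap ℤ L)).Splits := by
    have h := SplittingField.splits p
    rw [Polynomial.map_map] at h
    have e : (algebraMap ℚ L).comp (Int.castRingHom ℚ) = algebraMap ℤ L := RingHom.ext_int _ _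
    exact e ▸ h
  let RL := (P.map (algebraMap ℤ L)).roots
  let e : L →ₐ[ℚ] ℂ := IsAlgClosed.lift
  have hR : (P.map (Int.castRingHom ℂ)).roots = RL.map e := by
    have h := (roots_map_of_injective_of_card_eq_natDegree (f := e.toRingHom) e.injective
      (show RL.card = (P.map (algebraMap ℤ L)).natDegree from (hsplit.natDegree_eq_card_roots).symm))
    rw [Polynomial.map_map, RingHom.ext_int (e.toRingHom.comp (algebraMap ℤ L)) (Int.castRingHom ℂ)] at h
    exact h.symm
  haveI : Normal ℚ L := Polynomial.SplittingField.instNormal p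
  haveI : IsGalois ℚ L := ⟨⟩
  have hfix : ∀ σ : L ≃ₐ[ℚ] L, RL.map σ = RL := fun σ => by
    have h := (roots_map_of_injective_of_card_eq_natDegree (f := σ.toRingEquiv.toRingHom) σ.injective
      (show RL.card = (P.map (algebraMap ℤ L)).natDegree from (hsplit.natDegree_eq_card_roots).symm))
    rw [Polynomial.map_map, RingHom.ext_int (σ.toRingEquiv.toRingHom.comp (algebraMap ℤ L)) (algebraMap ℤ L)] at h
    exact h
  have hO : ext RL j ∈ Polynomial.lifts (algebraMap (integralClosure ℤ L) L) := by
    refine multiset_prod_mem _ fun x hx => ?_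
    obtain ⟨I, hI, rfl⟩ := Multiset.mem_map.1 hx
    have hint : _root_.IsIntegral ℤ I.prod := IsIntegral.multiset_prod fun a ha =>
      ⟨P, hP, by
        rw [← Polynomial.eval_map]
        exact (mem_roots'.1 (Multiset.mem_of_le (Multiset.mem_powersetCard.1 hI).1 ha)).2⟩
    rw [sub_eq_add_neg, ← neg_mul, ← map_neg]
    exact add_mem (one_mem _) (mul_mem (C'_mem_lifts (f := algebraMap (integralClosure ℤ L) L)
      ⟨⟨-I.prod, hint.neg⟩, rfl⟩) (X_mem_lifts _))
  have hc : ∀ i, ∃ z : ℤ, (ext RL j).coeff i = z := fun i => by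
    have hf : ∀ σ : L ≃ₐ[ℚ] L, σ ((ext RL j).coeff i) = (ext RL j).coeff i := fun σ => by
      have h := map_ext σ.toRingEquiv.toRingHom RL j
      rw [show RL.map σ.toRingEquiv.toRingHom = RL from hfix σ] at h
      conv_rhs => rw [← h]
      rw [Polynomial.coeff_map]
      rfl
    have hbot := (IsGalois.mem_bot_iff_fixed (F := ℚ) ((ext RL j).coeff i)).2 hf
    obtain ⟨q, hq⟩ := IntermediateField.mem_bot.1 hbot
    obtain ⟨⟨w, hw⟩, hw'⟩ := (lifts_iff_coeff_lifts _).1 hO i
    have hint : _root_.IsIntegral ℤ ((ext RL j).coeff i) := hw' ▸ hw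
    rw [← hq, isIntegral_algebraMap_iff (algebraMap ℚ L).injective] at hint
    obtain ⟨z, hz⟩ := IsIntegrallyClosed.isIntegral_iff.1 hint
    exact ⟨z, by rw [← hq, ← hz]; simp⟩
  choose z hz using hc
  obtain ⟨Q, hQ⟩ : ext RL j ∈ Polynomial.lifts (algebraMap ℤ L) :=
    (lifts_iff_coeff_lifts _).2 fun i => ⟨z i, by rw [hz i]; simp⟩
  refine ⟨Q, ?_⟩
  rw [coe_mapRingHom] at hQ
  rw [hR, show RL.map e = RL.map e.toRingHom from rfl, ← map_ext e.toRingHom, ← hQ, Polynomial.map_map]
  exact congrArg (fun φ => Q.map φ) (RingHom.ext_int _ _)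

section zeta

open scoped PowerSeries.WithPiTopology
open PowerSeries

variable {ι : Type*} [Fintype ι] [DecidableEq ι] (r : ι → ℂ)

/-- The factor of degree `j`. -/
def U (j : ℕ) : PowerSeries ℂ :=
  ∏ I ∈ Finset.powersetCard j Finset.univ, (1 - PowerSeries.C (∏ i ∈ I, r i) * PowerSeries.X)

/-- Its logarithmic derivative. -/
def H (j : ℕ) : PowerSeries ℂ :=
  ∑ I ∈ Finset.powersetCard j Finset.univ, PowerSeries.mk fun n => -(∏ i ∈ I, r i) ^ (n + 1)

theorem linear_logDeriv (a : ℂ) : PowerSeries.coeff 0 (1 - PowerSeries.C a * PowerSeries.X) = 1 ∧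
    d⁄dX ℂ (1 - PowerSeries.C a * PowerSeries.X) =
      (1 - PowerSeries.C a * PowerSeries.X) * PowerSeries.mk fun n => -a ^ (n + 1) := by
  refine ⟨by simp, ?_⟩
  ext n
  rcases n with _ | n
  · simp [PowerSeries.coeff_derivative, sub_mul]
  · simp [PowerSeries.coeff_derivative, sub_mul, _root_.mul_assoc, PowerSeries.coeff_C_mul,
      PowerSeries.coeff_succ_X_mul, PowerSeries.coeff_X, PowerSeries.coeff_one]
    ring

theorem prod_logDeriv {α : Type*} (s : Finset α) (u h : α → PowerSeries ℂ)
    (hu : ∀ a ∈ s, PowerSeries.coeff 0 (u a) = 1 ∧ d⁄dX ℂ (u a) = u a * h a) :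
    PowerSeries.coeff 0 (∏ a ∈ s, u a) = 1 ∧ d⁄dX ℂ (∏ a ∈ s, u a) = (∏ a ∈ s, u a) * ∑ a ∈ s, h a := by
  classical
  induction s using Finset.induction_on with
  | empty => simp
  | insert a s ha ih =>
    obtain ⟨ih0, ih1⟩ := ih fun b hb => hu b (Finset.mem_insert_of_mem hb)
    obtain ⟨ha0, ha1⟩ := hu a (Finset.mem_insert_self a s)
    rw [Finset.prod_insert ha, Finset.sum_insert ha]
    refine ⟨?_, ?_⟩
    · simp only [PowerSeries.coeff_zero_eq_constantCoeff_apply, map_mul] at ha0 ih0 ⊢
      rw [ha0, ih0, _root_.mul_one]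
    · rw [Derivation.leibniz, ha1, ih1, smul_eq_mul, smul_eq_mul]
      ring

/-- A series with the point counts as logarithmic derivative is the alternating product. -/
theorem zeta_eq (Z : PowerSeries ℂ) (N : ℕ → ℂ) (h0 : PowerSeries.coeff 0 Z = 1)
    (h1 : d⁄dX ℂ Z = Z * PowerSeries.mk fun n => N (n + 1)) (hN : ∀ n, N (n + 1) = ∏ i, (1 - r i ^ (n + 1)))
    {d : ℕ} (hd : Fintype.card ι = d) :
    Z * ∏ j ∈ (Finset.range (d + 1)).filter (fun j => Even j), U r j =
      ∏ j ∈ (Finset.range (d + 1)).filter (fun j => Odd j), U r j := by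
  have hU : ∀ j, PowerSeries.coeff 0 (U r j) = 1 ∧ d⁄dX ℂ (U r j) = U r j * H r j := fun j =>
    prod_logDeriv _ _ _ fun I _ => linear_logDeriv _
  obtain ⟨he0, he1⟩ := prod_logDeriv ((Finset.range (d + 1)).filter fun j => Even j) _ _ fun j _ => hU j
  obtain ⟨ho0, ho1⟩ := prod_logDeriv ((Finset.range (d + 1)).filter fun j => Odd j) _ _ fun j _ => hU j
  refine Groth.L11.Newton.ext_of_logDeriv ?_ ?_ ho1
  · rw [ho0]
    simp only [PowerSeries.coeff_zero_eq_constantCoeff_apply, map_mul] at h0 he0 ⊢
    rw [h0, he0, _root_.mul_one]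
  have key : (∑ j ∈ (Finset.range (d + 1)).filter (fun j => Odd j), H r j) =
      (PowerSeries.mk fun n => N (n + 1)) + ∑ j ∈ (Finset.range (d + 1)).filter (fun j => Even j), H r j := by
    ext n
    simp only [map_add, map_sum, H, PowerSeries.coeff_mk, Finset.sum_neg_distrib, ← Finset.prod_pow]
    have h2 : N (n + 1) = ∑ j ∈ Finset.range (d + 1),
        (-1 : ℂ) ^ j * ∑ I ∈ Finset.powersetCard j Finset.univ, ∏ i ∈ I, r i ^ (n + 1) := by
      rw [hN]
      have h := Finset.prod_add (fun i : ι => -r i ^ (n + 1)) (fun _ => (1 : ℂ)) Finset.univ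
      simp only [Finset.prod_const_one, _root_.mul_one, Finset.prod_neg] at h
      rw [Finset.sum_powerset, Finset.card_univ, hd] at h
      rw [show (∏ i, (1 - r i ^ (n + 1))) = ∏ i, (-r i ^ (n + 1) + 1) from
        Finset.prod_congr rfl fun i _ => by ring, h]
      refine Finset.sum_congr rfl fun j _ => ?_
      rw [Finset.mul_sum]
      exact Finset.sum_congr rfl fun I hI => by rw [(Finset.mem_powersetCard.1 hI).2]
    rw [h2, ← Finset.sum_filter_add_sum_filter_not (Finset.range (d + 1)) (fun j => Even j)]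
    have hfil : (Finset.range (d + 1)).filter (fun j => ¬ Even j) = (Finset.range (d + 1)).filter fun j => Odd j :=
      Finset.filter_congr fun j _ => by rw [Nat.not_even_iff_odd]
    let S : ℕ → ℂ := fun j => ∑ I ∈ Finset.powersetCard j Finset.univ, ∏ i ∈ I, r i ^ (n + 1)
    have he : ∑ j ∈ (Finset.range (d + 1)).filter (fun j => Even j), (-1 : ℂ) ^ j * S j =
        ∑ j ∈ (Finset.range (d + 1)).filter (fun j => Even j), S j :=
      Finset.sum_congr rfl fun j hj => by rw [(Finset.mem_filter.1 hj).2.neg_one_pow, _root_.one_mul]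
    have ho : ∑ j ∈ (Finset.range (d + 1)).filter (fun j => Odd j), (-1 : ℂ) ^ j * S j =
        -∑ j ∈ (Finset.range (d + 1)).filter (fun j => Odd j), S j := by
      rw [← Finset.sum_neg_distrib]
      exact Finset.sum_congr rfl fun j hj => by rw [(Finset.mem_filter.1 hj).2.neg_one_pow, neg_one_mul]
    simp only [S] at he ho
    rw [hfil, he, ho]
    ring
  rw [key, Derivation.leibniz, h1, he1, smul_eq_mul, smul_eq_mul]
  ring

theorem ext_coe (j : ℕ) : ((SubsetZeta.ext ((Finset.univ : Finset ι).val.map r) j : ℂ[X]) : PowerSeries ℂ) = U r j := by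
  rw [ext, Multiset.powersetCard_map, Multiset.map_map, U, Finset.prod_eq_multiset_prod,
    ← Finset.map_val_val_powersetCard, Multiset.map_map]
  refine (map_multiset_prod Polynomial.coeToPowerSeries.ringHom _).trans ?_
  rw [Multiset.map_map]
  refine congrArg Multiset.prod (Multiset.map_congr rfl fun I _ => ?_)
  simp only [Function.comp_apply, Polynomial.coeToPowerSeries.ringHom_apply, Polynomial.coe_sub, Polynomial.coe_one,
    Polynomial.coe_mul, Polynomial.coe_C, Polynomial.coe_X, ← Finset.prod_eq_multiset_prod]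

end zeta

end Groth.Agent.AV.SubsetZeta
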